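import Cfsg.Agent.E8A.TwoH.Lie_m3
import Cfsg.Agent.E8A.Reg5.AutLat
import Cfsg.Agent.Lib.FinFast
import Cfsg.Agent.FastGrp
import Cfsg.Agent.Prune
set_option linter.all false

section
prune_inst 0x7fffadf8fbbcffffdfff7e7ffedbfffd8bbb1fffe6dff9437fe263ff1bdf13800bedfbaf89e092fe1ef6e29410b87853fb7eefffe86fdc7ffffdfff41ffbee4ff5f73508519c9ca40f380fff03f0778e7f3fffffffffffffffffffffffffffbeffffffffffff

-- part: E8A/Odd/Sl2
section
prune_inst 0x100500000000000001800004000050000000002004880000000020002c0cc40000400210000001010000c5400300040000000200020000000000000011900800800000020010008400000000000000000000000000000000000000000000000000000000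
set_option linter.all false
open scoped Cfsg.Agent.FastGrp

/-!
# The calculus of the long root subalgebras `sl₂` of `E₈`, odd characteristic (helper41)

* `top_of_ee` : the root vectors generate; `kf_inv`, `kf_br` : the form is invariant;
* `Rz.one`, `Rz.ee`, `Rz.plus_e`, `Rz.minus`, … : the brackets with `e`, `f`, `h = [e, f]` on the eigenspaces of `z`;
* `Sz e f` : the span of `e`, `f`, `h`; `pr e f` : the orthogonal projection; `Rz.eq_of_Sz`;
* `Nn z A g` : `g` is the element of order 4 of `A = e - f`; `Rz.exists_nn`.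
-/

set_option autoImplicit false
set_option maxRecDepth 100000
set_option linter.unusedSectionVars false
set_option linter.unusedSimpArgs false
set_option linter.unnecessarySeqFocus false

namespace Cfsg.Agent.E8A.Odd

open CoxeterSystem Cfsg Cfsg.Lie Module
open Matrix hiding J J_transpose
open Cfsg.Agent.Tits.Roots Cfsg.Agent.Nodes.Reps Cfsg.Agent.Nodes.RGDChev
open Cfsg.Agent.KFacts.RgdChevCoord
open Cfsg.Agent.H942.E8Tab (e8T)
open Cfsg.Agent.H288.E8L (Q8 wt wt_inl wt_inr rt_vec vec_ne_zero exists_idx wt_inj)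
open Cfsg.Agent.H897.T5Lat (bf_apply)
open Cfsg.Agent.H952.F4 (ev)
open Cfsg.Agent.E8A.Frm (B0 fm8 finW8)
open Cfsg.Agent.E8A.Inf (kf kf_comm kf_act kf_act' kf_nd)
open Cfsg.Agent.E8A.Par (op vec_op op_ne kf_ee act_xr ux act_ux norm_wt ext_act Extr)
open Cfsg.Agent.E8A.Reg5.Cls (ex dz Cj)
open Cfsg.Agent.E8A.Reg5.Aut (si vec_si)
open Cfsg.Agent.E8A.Two
open Cfsg.Agent.E8A.TwoH

universe u

variable {K : Type u} [Field K]

/-! ### generalities -/

theorem br_neg_left (x y : L8 K) : br (-x) y = -br x y := by rw [← neg_one_smul K x, br_smul_left, neg_one_smul]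

theorem br_neg_right (x y : L8 K) : br x (-y) = -br x y := by rw [← neg_one_smul K y, br_smul_right, neg_one_smul]

theorem B0_comm (a b : Q8) : B0 a b = B0 b a := fm8.symm a b

theorem ex_cv (r : Fin chevE8.nroots) (a : Q8) : ex (cv r) a = B0 (vec chevE8 8 r) a := by
  rw [B0_comm, bf_apply, ex]
  refine Finset.sum_congr rfl fun i _ => ?_
  rw [cv, ← pairing_vec e8T i r.2, ChevalleyStructure.CoxeterGeom.pairing, Finset.mul_sum]
  exact Finset.sum_congr rfl fun j _ => (mul_assoc _ _ _).symm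

theorem op_op (r : Fin chevE8.nroots) : op (op r) = r := vec_injective (by rw [vec_op, vec_op, neg_neg])

theorem op_ne' (r : Fin chevE8.nroots) : op r ≠ r := fun h => op_ne r (congrArg Fin.val h)

theorem gr_cases (r : Fin chevE8.nroots) (i : chevE8.Idx) :
    B0 (vec chevE8 8 r) (wt i) = 0 ∨ B0 (vec chevE8 8 r) (wt i) = 1 ∨ B0 (vec chevE8 8 r) (wt i) = -1 ∨
      (B0 (vec chevE8 8 r) (wt i) = 2 ∧ i = Sum.inr r) ∨ (B0 (vec chevE8 8 r) (wt i) = -2 ∧ i = Sum.inr (op r)) := by
  have := finW8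
  rcases i with i | s
  · left
    rw [wt_inl, map_zero]
  · rw [wt_inr]
    by_cases h1 : s = r
    · subst h1
      exact Or.inr (Or.inr (Or.inr (Or.inl ⟨B0_vec s, rfl⟩)))
    by_cases h2 : s = op r
    · subst h2
      refine Or.inr (Or.inr (Or.inr (Or.inr ⟨?_, rfl⟩)))
      rw [vec_op, map_neg, B0_vec]
    have h3 := fm8.sl _ _ (rt_vec r) (rt_vec s) (fun h => h1 (vec_injective h).symm) fun h => h2 (vec_injective (by
      rw [vec_op, h, neg_neg]))
    rw [← fm8.cpr _ _ (rt_vec s), abs_le] at h3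
    omega

/-- the root vectors generate the algebra -/
theorem top_of_ee {U : Submodule K (L8 K)} (hb : ∀ x ∈ U, ∀ y ∈ U, br x y ∈ U)
    (h : ∀ r, ee K (Sum.inr r) ∈ U) (v : L8 K) : v ∈ U := by
  have h1 : ∀ i, ee K i ∈ U := by
    rintro (i | r)
    · have h2 := hb _ (h (si (ix i))) _ (h (op (si (ix i))))
      rw [br_ee_op, vec_si] at h2
      convert h2 using 1
      funext j
      rcases j with j | s
      · show _ = (((sr (ix i) : Q8) (ix j) : ℤ) : K)
        rw [ee_apply, sr, Pi.single_apply]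
        by_cases e : j = i
        · rw [if_pos (by rw [e]), if_pos (by rw [e]), Int.cast_one]
        · rw [if_neg fun e' => e (Sum.inl.inj e'), if_neg fun e' => e (by rw [← xi_ix j, e', xi_ix]), Int.cast_zero]
      · exact ee_ne (by simp)
    · exact h r
  rw [pi_eq_sum_univ' v]
  exact U.sum_mem fun i _ => U.smul_mem _ (h1 i)

theorem kf_e_br (r : Fin chevE8.nroots) (y : L8 K) : kf K (ee K (Sum.inr r)) (br (ee K (Sum.inr r)) y) = 0 := by
  rw [kf_ee]
  have h1 : y ∈ LS K {a | -2 ≤ B0 (vec chevE8 8 r) a} := fun i _ => by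
    have := gr_cases r i
    show -2 ≤ B0 _ _
    omega
  refine LS_zero (br_LS (A := {vec chevE8 8 r}) (A'' := {a | 0 ≤ B0 (vec chevE8 8 r) a}) ?_
    (ee_mem_LS (i := Sum.inr r) rfl) h1) ?_
  · rintro a rfl b hb
    show 0 ≤ B0 _ _
    rw [map_add, B0_vec]
    have : -2 ≤ B0 (vec chevE8 8 r) b := hb
    omega
  · show ¬ 0 ≤ B0 _ _
    rw [wt_inr, vec_op, map_neg, B0_vec]
    omega

theorem kf_e_e (r : Fin chevE8.nroots) : kf K (ee K (Sum.inr r)) (ee K (Sum.inr r)) = 0 := by
  rw [kf_ee, ee_ne fun h => op_ne' r (Sum.inr.inj h)]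

theorem kf_e_f (r : Fin chevE8.nroots) : kf K (ee K (Sum.inr r)) (ee K (Sum.inr (op r))) = 1 := by rw [kf_ee, ee_self]

section two

variable (h2 : (2 : K) ≠ 0)
include h2

theorem half {v w : L8 K} (h : (2 : K) • v = (2 : K) • w) : v = w := smul_right_injective _ h2 h

theorem eq_zero_of_neg {v : L8 K} (h : v = -v) : v = 0 := half h2 (by rw [two_smul, smul_zero, ← eq_neg_iff_add_eq_zero]; exact h)

theorem kf_inv (x y z : L8 K) : kf K (br x y) z = -kf K y (br x z) := by
  let U : Submodule K (L8 K) :=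
    { carrier := {x | ∀ y z, kf K (br x y) z = -kf K y (br x z)}
      zero_mem' := fun y z => by simp [br_zero_left]
      add_mem' := fun {a b} ha hb y z => by
        rw [br_add_left, br_add_left, map_add, LinearMap.add_apply, map_add, ha, hb, neg_add]
      smul_mem' := fun c a ha y z => by
        rw [br_smul_left, br_smul_left, map_smul, LinearMap.smul_apply, map_smul, ha, smul_neg] }
  refine top_of_ee (U := U) (fun a ha b hb y z => ?_) (fun r y z => ?_) x y z
  · rw [br_jac, br_jac, map_sub, LinearMap.sub_apply, map_sub, ha, hb, hb, ha]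
    ring
  · have e1 := kf_act (xr r (1 : K)) y z
    have e2 := kf_act (xr r (-1 : K)) y z
    have e3 := kf_e_br r y
    have e4 := kf_e_br r z
    rw [kf_comm] at e3
    simp only [act_xr, map_add, map_sub, map_smul, LinearMap.add_apply, LinearMap.sub_apply, LinearMap.smul_apply,
      smul_eq_mul, e3, e4, kf_e_e] at e1 e2
    apply mul_left_cancel₀ h2
    linear_combination e1 - e2

theorem kf_br (x y z : L8 K) : kf K (br x y) z = kf K x (br y z) := by
  rw [br_anti, map_neg, LinearMap.neg_apply, kf_inv h2, neg_neg]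

theorem ee_ee (r : Fin chevE8.nroots) (v : L8 K) :
    br (ee K (Sum.inr r)) (br (ee K (Sum.inr r)) v) = (-2 * kf K (ee K (Sum.inr r)) v) • ee K (Sum.inr r) := by
  have e1 : act (xr r (1 : K)) (act (xr r (-1 : K)) v) = v := by
    rw [← act_mul, xr_add, add_neg_cancel, xr_zero, act_one]
  simp only [act_xr, br_add_right, br_sub_right, br_smul_right, br_self, map_add, map_sub, map_smul, smul_eq_mul,
    kf_e_br, kf_e_e] at e1
  linear_combination (norm := module) -e1

theorem Extr.sq {x : L8 K} (h : Extr x) (v : L8 K) : br x (br x v) = (-2 * kf K x v) • x := by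
  obtain ⟨g, r, c, -, rfl⟩ := h
  obtain ⟨w, rfl⟩ : ∃ w, v = act g w := ⟨_, (act_inv' g v).symm⟩
  rw [br_smul_left, br_smul_left, br_smul_right, ← act_br, ← act_br, ee_ee h2, map_smul, LinearMap.smul_apply, kf_act,
    act_smul, smul_eq_mul]
  module

theorem kf_pm {z : G8 K} {v w : L8 K} (hv : act z v = v) (hw : act z w = -w) : kf K v w = 0 := by
  have h := kf_act z v w
  rw [hv, hw, map_neg] at h
  apply mul_left_cancel₀ h2
  linear_combination -h

end two

/-! ### the standard position -/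

section std

variable {z : G8 K} {r : Fin chevE8.nroots}

theorem act_z (hz : mx z = dz (-1) (cv r)) (v : L8 K) (i : chevE8.Idx) :
    act z v i = (-1) ^ B0 (vec chevE8 8 r) (wt i) * v i := by rw [act_dz hz, ex_cv]

theorem fix_z (hz : mx z = dz (-1) (cv r)) {v : L8 K} (hv : v ∈ LS K {a | Even (B0 (vec chevE8 8 r) a)}) :
    act z v = v := by
  funext i
  rw [act_z hz]
  by_cases h : v i = 0
  · rw [h, mul_zero]
  · rw [Even.neg_one_zpow (hv i h), one_mul]

theorem even_z (h2 : (2 : K) ≠ 0) (hz : mx z = dz (-1) (cv r)) {v : L8 K} (hv : act z v = v) :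
    v ∈ LS K {a | Even (B0 (vec chevE8 8 r) a)} := fun i hi => by
  by_contra h
  have h1 := congrFun hv i
  rw [act_z hz, Odd.neg_one_zpow (Int.not_even_iff_odd.1 h)] at h1
  exact hi (mul_left_cancel₀ h2 (by linear_combination -h1))

theorem odd_z (h2 : (2 : K) ≠ 0) (hz : mx z = dz (-1) (cv r)) {v : L8 K} (hv : act z v = -v) :
    v ∈ LS K {a | Odd (B0 (vec chevE8 8 r) a)} := fun i hi => by
  by_contra h
  have h1 := congrFun hv i
  rw [act_z hz, Even.neg_one_zpow (Int.not_odd_iff_even.1 h), Pi.neg_apply] at h1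
  exact hi (mul_left_cancel₀ h2 (by linear_combination h1))

theorem dz_op (r : Fin chevE8.nroots) : dz (-1 : K) (cv (op r)) = dz (-1) (cv r) := by
  rw [dz, dz]
  congr 1
  funext i
  rw [ex_cv, ex_cv, vec_op, map_neg, LinearMap.neg_apply, _root_.zpow_neg]
  rcases Int.even_or_odd (B0 (vec chevE8 8 r) (wt i)) with h | h
  · rw [Even.neg_one_zpow h, inv_one]
  · rw [Odd.neg_one_zpow h, inv_neg, inv_one]

theorem std_plus (h2 : (2 : K) ≠ 0) (hz : mx z = dz (-1) (cv r)) {v : L8 K} (hv : act z v = v) :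
    br (ee K (Sum.inr r)) v = kf K (ee K (Sum.inr r)) v • hq K (vec chevE8 8 r) -
      kf K (hq K (vec chevE8 8 r)) v • ee K (Sum.inr r) := by
  have h1 := even_z h2 hz hv
  obtain ⟨w, hw⟩ : ∃ w, w = v - v (Sum.inr (op r)) • ee K (Sum.inr (op r)) := ⟨_, rfl⟩
  have h3 : w ∈ LS K {a | 0 ≤ B0 (vec chevE8 8 r) a} := fun i hi => by
    show 0 ≤ B0 _ _
    rw [hw, Pi.sub_apply, Pi.smul_apply, smul_eq_mul] at hi
    by_cases e : i = Sum.inr (op r)
    · rw [e, ee_self, mul_one, sub_self] at hi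
      exact absurd rfl hi
    · rw [ee_ne e, mul_zero, sub_zero] at hi
      have h4 : Even (B0 (vec chevE8 8 r) (wt i)) := h1 i hi
      rcases gr_cases r i with h | h | h | h | h
      · omega
      · omega
      · rw [h] at h4
        exact absurd h4 (by decide)
      · omega
      · exact absurd h.2 e
  have h4 : br (ee K (Sum.inr r)) w ∈ LS K {a | 2 ≤ B0 (vec chevE8 8 r) a} :=
    br_LS (A := {vec chevE8 8 r}) (by
      rintro a rfl b hb
      show 2 ≤ B0 _ _
      rw [map_add, B0_vec]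
      have : 0 ≤ B0 (vec chevE8 8 r) b := hb
      omega) (ee_mem_LS rfl) h3
  have h5 : br (ee K (Sum.inr r)) w ∈ LS K {vec chevE8 8 r} := fun i hi => by
    have h6 : 2 ≤ B0 (vec chevE8 8 r) (wt i) := h4 i hi
    rcases gr_cases r i with h | h | h | h | h
    · omega
    · omega
    · omega
    · rw [h.2]
      rfl
    · omega
  have h6 : br (ee K (Sum.inr r)) w (Sum.inr r) = -kf K (hq K (vec chevE8 8 r)) v := by
    have e1 := kf_ee (op r) (br (ee K (Sum.inr r)) w)
    rw [op_op] at e1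
    rw [← e1, ← kf_br h2, br_anti, br_ee_op, map_neg, LinearMap.neg_apply, kf_hq, kf_hq, hw, rl_sub, rl_smul,
      rl_congr (v := ee K (Sum.inr (op r))) (w := 0) fun i => ee_ne (by simp), rl_zero, mul_zero, sub_zero]
  have h7 : v = w + v (Sum.inr (op r)) • ee K (Sum.inr (op r)) := by rw [hw, sub_add_cancel]
  conv_lhs => rw [h7, br_add_right, br_smul_right, br_ee_op, eq_smul_ee h5, h6]
  rw [kf_ee]
  module

theorem std_split (h2 : (2 : K) ≠ 0) (hz : mx z = dz (-1) (cv r)) {v : L8 K} (hv : act z v = -v) :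
    ∃ a b, v = a + b ∧ a ∈ LS K {x | B0 (vec chevE8 8 r) x = 1} ∧ b ∈ LS K {x | B0 (vec chevE8 8 r) x = -1} := by
  classical
  have h1 := odd_z h2 hz hv
  refine ⟨fun i => if B0 (vec chevE8 8 r) (wt i) = 1 then v i else 0,
    fun i => if B0 (vec chevE8 8 r) (wt i) = 1 then 0 else v i, ?_, fun i hi => ?_, fun i hi => ?_⟩
  · funext i
    rw [Pi.add_apply]
    split_ifs <;> simp
  · by_contra h
    exact hi (if_neg h)
  · have h3 : ¬ B0 (vec chevE8 8 r) (wt i) = 1 := fun h => hi (if_pos h)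
    have h4 : Odd (B0 (vec chevE8 8 r) (wt i)) := h1 i fun h => hi ((if_neg h3).trans h)
    show B0 _ _ = -1
    rcases gr_cases r i with h | h | h | h | h
    · rw [h] at h4
      exact absurd h4 (by decide)
    · exact absurd h h3
    · exact h
    · rw [h.1] at h4
      exact absurd h4 (by decide)
    · rw [h.1] at h4
      exact absurd h4 (by decide)

theorem br_top {a : L8 K} (ha : a ∈ LS K {x | B0 (vec chevE8 8 r) x = 1}) : br (ee K (Sum.inr r)) a = 0 := by
  funext i
  refine LS_zero (br_LS (A := {vec chevE8 8 r}) (A'' := {x | B0 (vec chevE8 8 r) x = 3}) ?_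
    (ee_mem_LS (i := Sum.inr r) rfl) ha) ?_
  · rintro a rfl b hb
    show B0 _ _ = 3
    rw [map_add, B0_vec, show B0 (vec chevE8 8 r) b = 1 from hb]
    rfl
  · show ¬ B0 _ _ = 3
    have := gr_cases r i
    omega

theorem br_hq {a : Q8} {k : ℤ} {v : L8 K} (hv : v ∈ LS K {x | B0 a x = k}) : br (hq K a) v = (k : K) • v := by
  funext i
  rw [br_T (inT_hq _), rl_hq, Pi.smul_apply, smul_eq_mul]
  by_cases h : v i = 0
  · rw [h, mul_zero, mul_zero]
  · rw [show B0 a (wt i) = k from hv i h]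

theorem std_minus (h2 : (2 : K) ≠ 0) (hz : mx z = dz (-1) (cv r)) {v : L8 K} (hv : act z v = -v) :
    br (ee K (Sum.inr r)) (br (ee K (Sum.inr (op r))) v) + br (ee K (Sum.inr (op r))) (br (ee K (Sum.inr r)) v) = v := by
  obtain ⟨a, b, rfl, ha, hb⟩ := std_split h2 hz hv
  have h1 := br_top ha
  have h3 : br (ee K (Sum.inr (op r))) b = 0 := br_top fun i hi => by
    show B0 _ _ = 1
    rw [vec_op, map_neg, LinearMap.neg_apply, show B0 (vec chevE8 8 r) (wt i) = -1 from hb i hi]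
    rfl
  have h4 := br_jac (ee K (Sum.inr r)) (ee K (Sum.inr (op r))) a
  have h5 := br_jac (ee K (Sum.inr r)) (ee K (Sum.inr (op r))) b
  rw [br_ee_op, br_hq ha, h1, br_zero_right] at h4
  rw [br_ee_op, br_hq hb, h3, br_zero_right] at h5
  simp only [br_add_right, h1, h3, add_zero, zero_add]
  push_cast at h4 h5
  linear_combination (norm := module) h5 - h4

end std

/-! ### the general position -/

theorem rz_std {z : G8 K} {r : Fin chevE8.nroots} (hz : mx z = dz (-1) (cv r)) :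
    Rz z (ee K (Sum.inr r)) (ee K (Sum.inr (op r))) :=
  ⟨1, r, (act_one _).symm, (act_one _).symm, by rw [mx_one, Matrix.mul_one, Matrix.one_mul, hz]⟩

namespace Rz

variable {z y : G8 K} {e f e' f' v w : L8 K}

theorem conj (h : Rz z e f) (y : G8 K) : Rz (y * z * y⁻¹) (act y e) (act y f) := by
  obtain ⟨g, r, rfl, rfl, hz⟩ := h
  refine ⟨y * g, r, (act_mul _ _ _).symm, (act_mul _ _ _).symm, ?_⟩
  rw [← mx_mul, show y * z * y⁻¹ * (y * g) = y * (z * g) by group, mx_mul, mx_mul, hz, mx_mul, Matrix.mul_assoc]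

theorem conj' (h : Rz z e f) {z' : G8 K} (hy : y * z = z' * y) : Rz z' (act y e) (act y f) := by
  have h1 := h.conj y
  rwa [hy, mul_inv_cancel_right] at h1

theorem std (h : Rz z e f) : ∃ (g z₀ : G8 K) (r : Fin chevE8.nroots), mx z₀ = dz (-1) (cv r) ∧
    e = act g (ee K (Sum.inr r)) ∧ f = act g (ee K (Sum.inr (op r))) ∧ z = g * z₀ * g⁻¹ := by
  obtain ⟨g, r, rfl, rfl, hz⟩ := h
  exact ⟨g, g⁻¹ * z * g, r, mx_of_semi hz, rfl, rfl, by group⟩

theorem symm (h : Rz z e f) : Rz z f e := by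
  obtain ⟨g, r, rfl, rfl, hz⟩ := h
  exact ⟨g, op r, rfl, by rw [op_op], by rw [dz_op, hz]⟩

theorem extr (h : Rz z e f) : Extr e := by
  obtain ⟨g, r, rfl, -, -⟩ := h
  exact ⟨g, r, 1, one_ne_zero, (one_smul _ _).symm⟩

theorem ef (h : Rz z e f) : kf K e f = 1 := by
  obtain ⟨g, r, rfl, rfl, -⟩ := h
  rw [kf_act, kf_e_f]

theorem fe (h : Rz z e f) : kf K f e = 1 := h.symm.ef

theorem ee0 (h : Rz z e f) : kf K e e = 0 := by
  obtain ⟨g, r, rfl, -, -⟩ := h
  rw [kf_act, kf_e_e]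

theorem ff0 (h : Rz z e f) : kf K f f = 0 := h.symm.ee0

theorem ne (h : Rz z e f) : e ≠ 0 := fun h0 => by
  have h1 := h.ef
  rw [h0, map_zero, LinearMap.zero_apply] at h1
  exact zero_ne_one h1

theorem act_act (h : Rz z e f) (v : L8 K) : act z (act z v) = v := by
  obtain ⟨g, z₀, r, hz, -, -, rfl⟩ := h.std
  have h1 : ∀ w, act z₀ (act z₀ w) = w := fun w => funext fun i => by
    rw [act_z hz, act_z hz, ← mul_assoc, ← mul_zpow, neg_mul_neg, mul_one, _root_.one_zpow, one_mul]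
  simp only [act_mul, act_inv, h1, act_inv']

theorem one (h : Rz z e f) : z * z = 1 := ext_act fun v => by rw [act_mul, h.act_act, act_one]

theorem inv (h : Rz z e f) : z⁻¹ = z := inv_eq_of_mul_eq_one_left h.one

theorem fix_e (h : Rz z e f) : act z e = e := by
  obtain ⟨g, z₀, r, hz, rfl, -, rfl⟩ := h.std
  rw [act_mul, act_mul, act_inv, fix_z hz (ee_mem_LS (by
    show Even (B0 _ _)
    rw [wt_inr, B0_vec]
    decide))]

theorem fix_f (h : Rz z e f) : act z f = f := h.symm.fix_e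

theorem fix_h (h : Rz z e f) : act z (br e f) = br e f := by rw [act_br, h.fix_e, h.fix_f]

theorem smul [IsAlgClosed K] (h : Rz z e f) {c : K} (hc : c ≠ 0) : Rz z (c • e) (c⁻¹ • f) := by
  obtain ⟨g, r, rfl, rfl, hz⟩ := h
  obtain ⟨s, rfl⟩ := IsAlgClosed.exists_pow_nat_eq c two_pos
  have hs : s ≠ 0 := fun h => hc (by rw [h, zero_pow two_ne_zero])
  obtain ⟨t, -, ht⟩ := exists_tz hs (cv r)
  have h1 : ∀ (u : Fin chevE8.nroots), act t (ee K (Sum.inr u)) =
      s ^ B0 (vec chevE8 8 r) (vec chevE8 8 u) • ee K (Sum.inr u) := fun u => funext fun i => by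
    rw [act_dz ht, ex_cv, Pi.smul_apply, smul_eq_mul]
    by_cases e : i = Sum.inr u
    · rw [e, wt_inr]
    · rw [ee_ne e, mul_zero, mul_zero]
  refine ⟨g * t, r, ?_, ?_, ?_⟩
  · rw [act_mul, h1, B0_vec, act_smul, zpow_ofNat]
  · rw [act_mul, h1, vec_op, map_neg, B0_vec, act_smul, _root_.zpow_neg, zpow_ofNat]
  · rw [mx_mul, ← Matrix.mul_assoc, hz, Matrix.mul_assoc, Matrix.mul_assoc, ht, dz, dz, Matrix.diagonal_mul_diagonal,
      Matrix.diagonal_mul_diagonal]
    congr 2
    exact funext fun i => mul_comm _ _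

variable (h2 : (2 : K) ≠ 0) (h : Rz z e f)
include h2 h

theorem sq (v : L8 K) : br e (br e v) = (-2 * kf K e v) • e := Extr.sq h2 h.extr v

theorem eh : br e (br e f) = (-2 : K) • e := by rw [h.sq h2, h.ef, mul_one]

theorem fh : br f (br e f) = (2 : K) • f := by rw [br_anti e f, br_neg_right, h.symm.eh h2, neg_smul, neg_neg]

theorem he : br (br e f) e = (2 : K) • e := by rw [br_anti, h.eh h2, neg_smul, neg_neg]

theorem hf : br (br e f) f = (-2 : K) • f := by rw [br_anti, h.fh h2, neg_smul]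

theorem kf_eh : kf K e (br e f) = 0 := by rw [← kf_br h2, br_self, map_zero, LinearMap.zero_apply]

theorem kf_fh : kf K f (br e f) = 0 := by rw [br_anti e f, map_neg, h.symm.kf_eh h2, neg_zero]

theorem kf_he : kf K (br e f) e = 0 := by rw [kf_comm, h.kf_eh h2]

theorem kf_hf : kf K (br e f) f = 0 := by rw [kf_comm, h.kf_fh h2]

theorem kf_hh : kf K (br e f) (br e f) = 2 := by rw [kf_br h2, h.fh h2, map_smul, h.ef, smul_eq_mul, mul_one]

theorem plus_e (hv : act z v = v) : br e v = kf K e v • br e f - kf K (br e f) v • e := by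
  obtain ⟨g, z₀, r, hz, rfl, rfl, rfl⟩ := h.std
  obtain ⟨w, rfl⟩ : ∃ w, v = act g w := ⟨_, (act_inv' g v).symm⟩
  rw [act_mul, act_mul, act_inv] at hv
  rw [← act_br, ← act_br, kf_act, kf_act, br_ee_op, std_plus h2 hz (act_injective g hv), act_sub, act_smul, act_smul]

theorem plus_f (hv : act z v = v) : br f v = kf K (br e f) v • f - kf K f v • br e f := by
  rw [h.symm.plus_e h2 hv, br_anti f e, map_neg, LinearMap.neg_apply]
  module

theorem plus_h (hv : act z v = v) : br (br e f) v = (2 * kf K f v) • e - (2 * kf K e v) • f := by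
  rw [br_jac, h.plus_f h2 hv, h.plus_e h2 hv]
  simp only [br_sub_right, br_smul_right, h.eh h2, h.fh h2, br_anti f e]
  module

theorem minus (hv : act z v = -v) : br e (br f v) + br f (br e v) = v := by
  obtain ⟨g, z₀, r, hz, rfl, rfl, rfl⟩ := h.std
  obtain ⟨w, rfl⟩ : ∃ w, v = act g w := ⟨_, (act_inv' g v).symm⟩
  rw [act_mul, act_mul, act_inv, ← act_neg] at hv
  rw [← act_br, ← act_br, ← act_br, ← act_br, ← act_add, std_minus h2 hz (act_injective g hv)]

theorem minus_kf (hv : act z v = -v) : kf K e v = 0 := kf_pm h2 h.fix_e hv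

theorem minus_ee (hv : act z v = -v) : br e (br e v) = 0 := by rw [h.sq h2, h.minus_kf h2 hv, mul_zero, zero_smul]

theorem minus_ff (hv : act z v = -v) : br f (br f v) = 0 := h.symm.minus_ee h2 hv

omit h2 in
theorem minus_e (hv : act z v = -v) : act z (br e v) = -br e v := by rw [act_br, h.fix_e, hv, br_neg_right]

omit h2 in
theorem minus_f (hv : act z v = -v) : act z (br f v) = -br f v := h.symm.minus_e hv

/-- the decomposition into the eigenspaces -/
theorem split (v : L8 K) : ∃ a b, v = a + b ∧ act z a = a ∧ act z b = -b := by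
  refine ⟨(2⁻¹ : K) • (v + act z v), (2⁻¹ : K) • (v - act z v), ?_, ?_, ?_⟩
  · rw [← smul_add, add_add_sub_cancel, ← two_smul K v, smul_smul, inv_mul_cancel₀ h2, one_smul]
  · rw [act_smul, act_add, h.act_act, add_comm]
  · rw [act_smul, act_sub, h.act_act, ← smul_neg, neg_sub]

theorem ext {a b : G8 K} (h1 : ∀ v, act z v = v → act a v = act b v) (h3 : ∀ v, act z v = -v → act a v = act b v) :
    a = b := ext_act fun v => by
  obtain ⟨x, y, rfl, hx, hy⟩ := h.split h2 v
  rw [act_add, act_add, h1 x hx, h3 y hy]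

end Rz

/-! ### the subalgebra and the projection -/

/-- the span of `e`, `f`, `[e, f]` -/
noncomputable def Sz (e f : L8 K) : Submodule K (L8 K) := Submodule.span K {e, f, br e f}

/-- the orthogonal projection -/
noncomputable def pr (e f v : L8 K) : L8 K := kf K f v • e + kf K e v • f + (2⁻¹ * kf K (br e f) v) • br e f

theorem mem_Sz {e f v : L8 K} : v ∈ Sz e f ↔ ∃ a b c : K, v = a • e + b • f + c • br e f := by
  rw [Sz, Submodule.mem_span_triple]
  exact exists_congr fun _ => exists_congr fun _ => exists_congr fun _ => eq_comm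

theorem e_mem (e f : L8 K) : e ∈ Sz e f := Submodule.subset_span (by simp)

theorem f_mem (e f : L8 K) : f ∈ Sz e f := Submodule.subset_span (by simp)

theorem h_mem (e f : L8 K) : br e f ∈ Sz e f := Submodule.subset_span (by simp)

theorem pr_mem (e f v : L8 K) : pr e f v ∈ Sz e f := mem_Sz.2 ⟨_, _, _, rfl⟩

theorem act_Sz (y : G8 K) {e f v : L8 K} (hv : v ∈ Sz e f) : act y v ∈ Sz (act y e) (act y f) := by
  obtain ⟨a, b, c, rfl⟩ := mem_Sz.1 hv
  exact mem_Sz.2 ⟨a, b, c, by simp only [act_add, act_smul, act_br]⟩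

theorem fix_Sz {y : G8 K} {e f v : L8 K} (he : act y e = e) (hf : act y f = f) (hv : v ∈ Sz e f) : act y v = v := by
  obtain ⟨a, b, c, rfl⟩ := mem_Sz.1 hv
  simp only [act_add, act_smul, act_br, he, hf]

theorem br_Sz_zero {e f v w : L8 K} (he : br e w = 0) (hf : br f w = 0) (hv : v ∈ Sz e f) : br v w = 0 := by
  obtain ⟨a, b, c, rfl⟩ := mem_Sz.1 hv
  simp only [br_add_left, br_smul_left, br_jac, he, hf, br_zero_right, smul_zero, add_zero, sub_zero]

namespace Rz

variable {z y : G8 K} {e f e' f' v w : L8 K} (h2 : (2 : K) ≠ 0) (h : Rz z e f)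
include h

theorem fix_of_mem (hv : v ∈ Sz e f) : act z v = v := fix_Sz h.fix_e h.fix_f hv

include h2

theorem kf_pr_e (v : L8 K) : kf K e (pr e f v) = kf K e v := by
  simp only [pr, map_add, map_smul, h.ee0, h.ef, h.kf_eh h2, smul_eq_mul]
  ring

theorem kf_pr_f (v : L8 K) : kf K f (pr e f v) = kf K f v := by
  simp only [pr, map_add, map_smul, h.ff0, h.fe, h.kf_fh h2, smul_eq_mul]
  ring

theorem kf_pr_h (v : L8 K) : kf K (br e f) (pr e f v) = kf K (br e f) v := by
  simp only [pr, map_add, map_smul, h.kf_he h2, h.kf_hf h2, h.kf_hh h2, smul_eq_mul]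
  field_simp
  ring

theorem kf_pr (hw : w ∈ Sz e f) (v : L8 K) : kf K w (pr e f v) = kf K w v := by
  obtain ⟨a, b, c, rfl⟩ := mem_Sz.1 hw
  simp only [map_add, map_smul, LinearMap.add_apply, LinearMap.smul_apply, h.kf_pr_e h2, h.kf_pr_f h2, h.kf_pr_h h2]

/-- the subalgebra is an ideal of the fixed space of `z` -/
theorem br_mem (hv : v ∈ Sz e f) (hw : act z w = w) : br v w ∈ Sz e f := by
  obtain ⟨a, b, c, rfl⟩ := mem_Sz.1 hv
  simp only [br_add_left, br_smul_left, h.plus_e h2 hw, h.plus_f h2 hw, h.plus_h h2 hw]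
  exact add_mem (add_mem (Submodule.smul_mem _ _ (sub_mem (Submodule.smul_mem _ _ (h_mem e f))
    (Submodule.smul_mem _ _ (e_mem e f)))) (Submodule.smul_mem _ _ (sub_mem (Submodule.smul_mem _ _ (f_mem e f))
    (Submodule.smul_mem _ _ (h_mem e f))))) (Submodule.smul_mem _ _ (sub_mem (Submodule.smul_mem _ _ (e_mem e f))
    (Submodule.smul_mem _ _ (f_mem e f))))

/-- a fixed vector orthogonal to the subalgebra commutes with it -/
theorem br_perp (hv : v ∈ Sz e f) (hw : act z w = w) (h0 : ∀ x ∈ Sz e f, kf K x w = 0) : br v w = 0 :=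
  br_Sz_zero (by rw [h.plus_e h2 hw, h0 _ (e_mem e f), h0 _ (h_mem e f)]; simp)
    (by rw [h.plus_f h2 hw, h0 _ (f_mem e f), h0 _ (h_mem e f)]; simp) hv

/-- a vector commuting with `e`, `f` is fixed by `z` -/
theorem fix_of_br (he : br e w = 0) (hf : br f w = 0) : act z w = w := by
  obtain ⟨a, b, rfl, ha, hb⟩ := h.split h2 w
  have h1 : ∀ {x}, act z x = x → br x (a + b) = 0 → br x b = 0 := fun {x} hx h0 => by
    have h3 := congrArg (act z) h0
    rw [act_br, hx, act_add, ha, hb, act_zero] at h3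
    refine half h2 ?_
    simp only [br_add_right, br_neg_right] at h0 h3
    linear_combination (norm := module) h0 - h3
  have h3 := h.minus h2 hb
  rw [h1 h.fix_e he, h1 h.fix_f hf, br_zero_right, br_zero_right, add_zero] at h3
  rw [← h3, add_zero, ha]

/-- the subalgebra determines the involution -/
theorem eq_of_Sz (h' : Rz y e' f') (hS : Sz e f = Sz e' f') : z = y := by
  have key : ∀ {z y : G8 K} {e f e' f' : L8 K}, Rz z e f → Rz y e' f' → Sz e f = Sz e' f' →
      ∀ v, act z v = v → act y v = v := by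
    intro z y e f e' f' h h' hS v hv
    have h1 : act z (v - pr e f v) = v - pr e f v := by rw [act_sub, hv, h.fix_of_mem (pr_mem e f v)]
    have h3 : ∀ x ∈ Sz e f, kf K x (v - pr e f v) = 0 := fun x hx => by rw [map_sub, h.kf_pr h2 hx, sub_self]
    have h4 := h'.fix_of_br h2 (h.br_perp h2 (hS ▸ e_mem e' f') h1 h3) (h.br_perp h2 (hS ▸ f_mem e' f') h1 h3)
    rw [act_sub, h'.fix_of_mem (v := pr e f v) (hS ▸ pr_mem e f v)] at h4
    exact sub_left_injective h4
  refine h.ext h2 (fun v hv => by rw [hv, key h h' hS v hv]) fun v hv => ?_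
  obtain ⟨a, b, rfl, ha, hb⟩ := h'.split h2 v
  have h1 : a = 0 := kf_nd fun w => by
    obtain ⟨c, d, rfl, hc, hd⟩ := h'.split h2 w
    have h3 := kf_pm h2 (key h' h hS.symm c hc) hv
    rw [map_add, kf_pm h2 hc hb, add_zero] at h3
    rw [map_add, kf_pm h2 ha hd, add_zero, kf_comm, h3]
  rw [hv, act_add, ha, hb, h1, zero_add, zero_add]

theorem indep {a b c : K} (h0 : a • e + b • f + c • br e f = 0) : a = 0 ∧ b = 0 ∧ c = 0 := by
  have h1 := congrArg (kf K e) h0
  have h3 := congrArg (kf K f) h0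
  have h4 := congrArg (kf K (br e f)) h0
  simp only [map_add, map_smul, h.ee0, h.ef, h.kf_eh h2, h.ff0, h.fe, h.kf_fh h2, h.kf_he h2, h.kf_hf h2,
    h.kf_hh h2, smul_eq_mul, map_zero] at h1 h3 h4
  exact ⟨by linear_combination h3, by linear_combination h1, mul_left_cancel₀ h2 (by linear_combination h4)⟩

theorem finrank_Sz : finrank K ↥(Sz e f) = 3 := by
  have h1 : LinearIndependent K ![e, f, br e f] := by
    rw [Fintype.linearIndependent_iff]
    intro g hg i
    simp only [Fin.sum_univ_three, Matrix.cons_val] at hg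
    obtain ⟨e1, e2, e3⟩ := h.indep h2 hg
    fin_cases i
    exacts [e1, e2, e3]
  have h3 := finrank_span_eq_card h1
  rwa [show Set.range ![e, f, br e f] = {e, f, br e f} by
    rw [Matrix.range_cons, Matrix.range_cons, Matrix.range_cons_empty]; rfl] at h3

theorem Sz_eq (h' : Rz y e' f') (he : e' ∈ Sz e f) (hf : f' ∈ Sz e f) : Sz e' f' = Sz e f := by
  refine Submodule.eq_of_le_of_finrank_eq ?_ (by rw [h.finrank_Sz h2, h'.finrank_Sz h2])
  rw [Sz, Submodule.span_le]
  rintro x (rfl | rfl | rfl)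
  exacts [he, hf, h.br_mem h2 he (h.fix_of_mem hf)]

end Rz

/-! ### the elements of order 4 -/

/-- `g` acts as `ad A` on the `-1`-eigenspace of `z` and as `1 + (ad A) ^ 2 / 2` on the fixed space -/
structure Nn (z : G8 K) (A : L8 K) (g : G8 K) : Prop where
  minus : ∀ v, act z v = -v → act g v = br A v
  plus : ∀ v, act z v = v → act g v = v + (2⁻¹ : K) • br A (br A v)

theorem Nn.conj {z g z' : G8 K} {A : L8 K} (h : Nn z A g) {y : G8 K} (hy : y * z = z' * y) :
    Nn z' (act y A) (y * g * y⁻¹) := by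
  have h1 : ∀ w, act z' (act y w) = act y (act z w) := fun w => by rw [← act_mul, ← hy, act_mul]
  constructor
  · intro v hv
    obtain ⟨w, rfl⟩ : ∃ w, v = act y w := ⟨_, (act_inv' y v).symm⟩
    rw [h1, ← act_neg] at hv
    rw [act_mul, act_mul, act_inv, h.minus w (act_injective y hv), act_br]
  · intro v hv
    obtain ⟨w, rfl⟩ : ∃ w, v = act y w := ⟨_, (act_inv' y v).symm⟩
    rw [h1] at hv
    rw [act_mul, act_mul, act_inv, h.plus w (act_injective y hv), act_add, act_smul, act_br, act_br]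

theorem Nn.neg {z g : G8 K} {A : L8 K} (h : Nn z A g) : Nn z (-A) (g * z) := by
  constructor
  · intro v hv
    rw [act_mul, hv, act_neg, h.minus v hv, br_neg_left]
  · intro v hv
    rw [act_mul, hv, h.plus v hv, br_neg_left, br_neg_left, br_neg_right, neg_neg]

namespace Rz

variable {z g g' : G8 K} {e f A v : L8 K} (h2 : (2 : K) ≠ 0) (h : Rz z e f)
include h2 h

theorem nn_unique (H : Nn z A g) (H' : Nn z A g') : g = g' :=
  h.ext h2 (fun v hv => by rw [H.plus v hv, H'.plus v hv]) fun v hv => by rw [H.minus v hv, H'.minus v hv]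

theorem AA_minus (hv : act z v = -v) : br (e - f) (br (e - f) v) = -v := by
  simp only [br_sub_left, br_sub_right, h.minus_ee h2 hv, h.minus_ff h2 hv]
  linear_combination (norm := module) -h.minus h2 hv

theorem AA_plus (hv : act z v = v) : br (e - f) (br (e - f) v) =
    (-2 * kf K (br e f) v) • br e f - (2 * (kf K e v + kf K f v)) • (e + f) := by
  simp only [br_sub_left, br_sub_right, br_smul_right, h.plus_e h2 hv, h.plus_f h2 hv, h.eh h2, h.fh h2, br_self,
    br_anti f e]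
  module

theorem exists_nn : ∃ g, Nn z (e - f) g := by
  have h' := h
  obtain ⟨y, r, he, hf, -⟩ := h'
  have a1 : ∀ v, act (ux y r 1) v = v + br e v - kf K e v • e := fun v => by
    rw [act_ux, ← he, one_smul, one_pow, one_mul]
  have a2 : ∀ v, act (ux y (op r) (-1)) v = v - br f v - kf K f v • f := fun v => by
    rw [act_ux, ← hf, neg_one_smul, neg_one_sq, one_mul, sub_eq_add_neg v]
  refine ⟨ux y r 1 * ux y (op r) (-1) * ux y r 1, fun v hv => ?_, fun v hv => ?_⟩
  · have b1 : ∀ v, act z v = -v → act (ux y r 1) v = v + br e v := fun v hv => by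
      rw [a1, h.minus_kf h2 hv, zero_smul, sub_zero]
    have b2 : ∀ v, act z v = -v → act (ux y (op r) (-1)) v = v - br f v := fun v hv => by
      rw [a2, h.symm.minus_kf h2 hv, zero_smul, sub_zero]
    have c1 := h.minus_e hv
    have c2 := h.minus_f hv
    have c3 := h.minus_f c1
    have d1 := h.minus h2 hv
    have d2 := h.minus h2 c1
    rw [h.minus_ee h2 hv, br_zero_right, add_zero] at d2
    simp only [act_mul, act_add, act_sub, b1 v hv, b2 v hv, b2 _ c1, b1 _ c1, b1 _ c2, b1 _ c3, h.minus_ee h2 hv, d2,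
      br_sub_left]
    linear_combination (norm := module) -d1
  · rw [h.AA_plus h2 hv]
    simp only [act_mul, a1, a2, br_add_right, br_sub_right, br_smul_right, map_add, map_sub, map_smul, smul_eq_mul,
      h.plus_e h2 hv, h.plus_f h2 hv, h.eh h2, h.fh h2, br_self, br_anti f e, h.ee0, h.ff0, h.ef, h.fe, h.kf_eh h2,
      h.kf_fh h2, map_neg, br_neg_right]
    match_scalars <;> field_simp <;> ring

theorem nn_sq (H : Nn z (e - f) g) : g * g = z := by
  refine h.ext h2 (fun v hv => ?_) fun v hv => ?_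
  · have b1 : ∀ v, act z v = v → act g v = v - kf K (br e f) v • br e f - (kf K e v + kf K f v) • (e + f) :=
      fun v hv => by
        rw [H.plus v hv, h.AA_plus h2 hv]
        match_scalars <;> field_simp
    simp only [act_mul, act_sub, act_add, act_smul, b1 v hv, b1 _ h.fix_e, b1 _ h.fix_f, b1 _ h.fix_h, hv, h.ee0,
      h.ff0, h.ef, h.fe, h.kf_eh h2, h.kf_fh h2, h.kf_he h2, h.kf_hf h2, h.kf_hh h2]
    module
  · rw [act_mul, H.minus v hv, H.minus _ (by rw [act_br, act_sub, h.fix_e, h.fix_f, hv, br_neg_right]),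
      h.AA_minus h2 hv, hv]

theorem nn_inv (H : Nn z (e - f) g) : g⁻¹ = g * z := by
  rw [inv_eq_iff_mul_eq_one, ← mul_assoc, h.nn_sq h2 H, h.one]

theorem nn_neg (H : Nn z (e - f) g) : Nn z (-(e - f)) g⁻¹ := by
  rw [h.nn_inv h2 H]
  exact H.neg

end Rz

end Cfsg.Agent.E8A.Odd

private theorem dce_7848d2f990bf : _root_.True := by
  try have : _root_.True := by simp only [_root_.Cfsg.Agent.E8A.Odd.pr.eq_1]
  try have : _root_.True := by simp only [_root_.Cfsg.Agent.E8A.Odd.Sz.eq_1]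
  try have : _root_.True := by simp only [_root_.Cfsg.Agent.E8A.Odd.cv.eq_1]
  exact _root_.True.intro
end

-- part: E8A/TwoH/V14
section
set_option linter.all false
open scoped Cfsg.Agent.FastGrp

namespace Cfsg.Agent
section
open Cfsg.Agent.H944.Tab (dotN sumH invB hh)

private noncomputable def fS (x : ℕ) (f : ℕ → ℕ) : ℕ := Nat.rec (f 0) (fun n _ => f (Nat.succ n)) x

private noncomputable def zpS (B : ℕ) (r : List ℕ) : List ℕ → List ℕ :=
  List.rec (fun c => c.map (Nat.mul B)) (fun a _ ih c => Nat.add a (Nat.mul B (c.headD 0)) :: ih c.tail) r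

private noncomputable def colS (B : ℕ) (R : List (List ℕ)) : List ℕ := List.rec [] (fun r _ ih => zpS B r ih) R

private noncomputable def pkS (B : ℕ) (y : List ℕ) (R : List (List ℕ)) : ℕ :=
  List.rec 0 (fun r _ ih => dotN r y + B * ih) R

private noncomputable def dgS (h : ℕ → ℕ) (R : List (List ℕ)) : ℕ → ℕ :=
  List.rec (fun _ => 0) (fun _ _ ih D => Nat.add (fS (Nat.mod D 1048576) h) (ih (Nat.div D 1048576))) R

private noncomputable def sumS (h : ℕ → ℕ) (R : List (List ℕ)) (y : List ℕ) : ℕ :=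
  cond (Nat.blt (dotN (colS 1 R) y) 1048576) (dgS h R (dotN (colS 1048576 R) y)) (sumH h R y)

private theorem zpS_dot (B : ℕ) (r : List ℕ) : ∀ c y : List ℕ, dotN (zpS B r c) y = dotN r y + B * dotN c y := by
  have d0 : ∀ y, dotN [] y = 0 := fun y => by cases y <;> rfl
  have d1 : ∀ y, dotN y [] = 0 := fun y => by cases y <;> rfl
  have h0 : ∀ (B : ℕ) (c y : List ℕ), dotN (c.map (Nat.mul B)) y = B * dotN c y := fun B c => by
    induction c with
    | nil => exact fun y => (d0 y).trans (by rw [d0]; rfl)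
    | cons b c ih =>
      intro y
      cases y with
      | nil => exact (d1 _).trans (by rw [d1]; rfl)
      | cons x y =>
        show B * b * x + dotN (c.map (Nat.mul B)) y = B * (b * x + dotN c y)
        rw [ih, Nat.mul_add, Nat.mul_assoc]
  induction r with
  | nil => exact fun c y => (h0 B c y).trans (by rw [d0, Nat.zero_add])
  | cons a r ih =>
    intro c y
    cases y with
    | nil => rw [d1, d1, d1]; rfl
    | cons x y =>
      show (a + B * c.headD 0) * x + dotN (zpS B r c.tail) y = a * x + dotN r y + B * dotN c (x :: y)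
      rw [ih]
      cases c with
      | nil =>
        show (a + B * 0) * x + (dotN r y + B * dotN [] y) = a * x + dotN r y + B * 0
        rw [d0, Nat.mul_zero, Nat.add_zero, Nat.add_zero, Nat.add_zero]
      | cons b c =>
        show (a + B * b) * x + (dotN r y + B * dotN c y) = a * x + dotN r y + B * (b * x + dotN c y)
        rw [Nat.add_mul, Nat.mul_add, Nat.mul_assoc, Nat.add_add_add_comm]

private theorem sumS_eq : sumH = sumS := by
  have h2 : ∀ (B : ℕ) (y : List ℕ) (R : List (List ℕ)), dotN (colS B R) y = pkS B y R := fun B y R => by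
    induction R with
    | nil => cases y <;> rfl
    | cons r R ih => exact (zpS_dot B r (colS B R) y).trans (congrArg (fun z => dotN r y + B * z) ih)
  have h3 : ∀ (h : ℕ → ℕ) (y : List ℕ) (R : List (List ℕ)), pkS 1 y R < 1048576 →
      sumH h R y = dgS h R (pkS 1048576 y R) := fun h y R => by
    induction R with
    | nil => exact fun _ => rfl
    | cons r R ih =>
      intro hl
      have e0 : dotN r y + 1 * pkS 1 y R < 1048576 := hl
      have e1 : (dotN r y + 1048576 * pkS 1048576 y R) % 1048576 = dotN r y := by omega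
      have e2 : (dotN r y + 1048576 * pkS 1048576 y R) / 1048576 = pkS 1048576 y R := by omega
      show h (dotN r y) + sumH h R y = fS ((dotN r y + 1048576 * pkS 1048576 y R) % 1048576) h +
        dgS h R ((dotN r y + 1048576 * pkS 1048576 y R) / 1048576)
      rw [e1, e2, ih (by omega)]
      cases dotN r y <;> rfl
  funext h R y
  delta sumS
  rw [h2, h2]
  cases e : Nat.blt (pkS 1 y R) 1048576 with
  | false => rfl
  | true => exact h3 h y R (Nat.blt_eq.mp e)

end

private noncomputable def alS (n : ℕ) (p : ℕ → Bool) : Bool :=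
  Nat.rec true (fun i r => @Bool.rec (fun _ => Bool) false r (p i)) n

private noncomputable def alcS (θ : List ℕ) : ℕ → (List ℕ → Bool) → Bool :=
  List.rec (fun _ p => p []) (fun t _ ih N p => alS (Nat.succ (Nat.div N t)) fun x =>
    ih (Nat.sub N (Nat.mul t x)) fun y => p (x :: y)) θ

private theorem alS_eq (k : ℕ) (p : ℕ → Bool) : (List.range k).all p = alS k p := by
  induction k with
  | zero => rfl
  | succ k ih =>
    rw [List.range_succ, List.all_append, ih, List.all_cons, List.all_nil]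
    show _ = @Bool.rec (fun _ => Bool) false (alS k p) (p k)
    cases p k <;> cases alS k p <;> rfl

private theorem alcS_eq : Cfsg.Agent.H944.Tab.allAlc = alcS := by
  funext θ
  induction θ with
  | nil => rfl
  | cons t θ ih =>
    funext N p
    show (List.range (N / t + 1)).all (fun x => Cfsg.Agent.H944.Tab.allAlc θ (N - t * x) fun y => p (x :: y)) = _
    rw [alS_eq, ih]
    rfl
end Cfsg.Agent

/-!
# Box TC: the module of dimension 14 of the centralizer of an element of class 92 (helper43)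

* `VV ω x z` : `x u = ω² u`, `[z, u] = 0`; `dim14`, `exists_VV`, `rk1` : elements of rank at most one;
* `dim6` : a commuting element of class 92 with products of class 80; `dim2` : a commuting element of order 5.
-/

set_option autoImplicit false
set_option maxRecDepth 100000

namespace Cfsg.Agent.E8A.TwoH

open CoxeterSystem Cfsg Cfsg.Lie Module
open Cfsg.Agent.ChevalleyStructure Cfsg.Agent.ChevalleyStructure.CoxeterGeom
  Cfsg.Agent.ChevalleyStructure.CoxeterGeomTypes Cfsg.Agent.ChevalleyStructure.JacMain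
open Cfsg.Agent.Tits.Roots Cfsg.Agent.Nodes.Reps Cfsg.Agent.Nodes.BNOf Cfsg.Agent.Nodes.RGDChev
open Cfsg.Agent.H129.TorusChar
open Cfsg.Agent.H952.F4 (ev)
open Cfsg.Agent.H942.E8Tab (e8T th8)
open Cfsg.Agent.H942.CB (cs8)
open Cfsg.Agent.H288.E8L (wt act8 wt_inl wt_inr rt_vec vec_ne_zero exists_idx wt_inj)
open Cfsg.Agent.H897.T5Lat (bf_apply)
open Cfsg.Agent.H944.Kac (srefl)
open Cfsg.Agent.H944.Tab (allAlc)
open Cfsg.Agent.E8A.Frm (B0)
open Cfsg.Agent.E8A.Par (norm_wt)
open Cfsg.Agent.E8A.Inf (toQ pk pw rat exists_cj of_allAlc cj_ev_pow cj_rat mx_pow)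
open Cfsg.Agent.E8A.Reg5.Cls (ex dz Cj mv ex_refl ex_zero dfx_of_cj ev_eq_dfx)
open Cfsg.Agent.E8A.Two

universe u

variable {K : Type u} [Field K]

/-- the module -/
def VV (ω : K) (x : G8 K) (z : L8 K) : Submodule K (L8 K) where
  carrier := {u | act x u = ω ^ 2 • u ∧ br z u = 0}
  zero_mem' := ⟨by rw [act_zero, smul_zero], br_zero_right z⟩
  add_mem' := fun {a b} ha hb => ⟨by rw [act_add, ha.1, hb.1, smul_add], by rw [br_add_right, ha.2, hb.2, add_zero]⟩
  smul_mem' := fun c a ha => ⟨by rw [act_smul, ha.1, smul_comm], by rw [br_smul_right, ha.2, smul_zero]⟩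

/-- the fixed space -/
def Fx (x : G8 K) : Submodule K (L8 K) where
  carrier := {u | act x u = u}
  zero_mem' := act_zero x
  add_mem' := fun {a b} ha hb => by
    show act x (a + b) = a + b
    rw [act_add, show act x a = a from ha, show act x b = b from hb]
  smul_mem' := fun c a ha => by
    show act x (c • a) = c • a
    rw [act_smul, show act x a = a from ha]

variable {ω : K} {x y t : G8 K} {z h : L8 K}

theorem act_cj (k x : G8 K) (u : L8 K) : act (k⁻¹ * x * k) (act k⁻¹ u) = act k⁻¹ (act x u) := by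
  rw [← act_mul, ← act_mul, mul_inv_cancel_right]

theorem VV_conj (k : G8 K) {u : L8 K} : act k⁻¹ u ∈ VV ω (k⁻¹ * x * k) (act k⁻¹ z) ↔ u ∈ VV ω x z := by
  show _ ∧ _ ↔ _ ∧ _
  rw [act_cj, ← act_smul, ← act_br, (act_injective k⁻¹).eq_iff]
  exact and_congr_right fun _ => ⟨act_eq_zero, fun e => by rw [e, act_zero]⟩

theorem VV_comm {g : G8 K} (h1 : Commute g x) (h2 : act g z = z) {u : L8 K} (hu : u ∈ VV ω x z) :
    act g u ∈ VV ω x z :=
  ⟨by rw [← act_mul, ← h1.eq, act_mul, hu.1, act_smul], by rw [← h2, ← act_br, hu.2, act_zero]⟩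

theorem VV_br {v : L8 K} (h1 : act x v = v) (H : Hx x z) {u : L8 K} (hu : u ∈ VV ω x z) : br v u ∈ VV ω x z :=
  ⟨by rw [act_br, h1, hu.1, br_smul_right], br_br_zero (H.cen v h1) hu.2⟩

theorem fr_le (c : G8 K) {U U' : Submodule K (L8 K)} (h : ∀ u ∈ U, act c u ∈ U') : finrank K U ≤ finrank K U' :=
  LinearMap.finrank_le_finrank_of_injective (f := (LK K c).restrict h) fun _ _ hab =>
    Subtype.ext (act_injective c (congrArg Subtype.val hab))

theorem fr_LS (p : Q8 → Prop) [DecidablePred p] :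
    finrank K (LS K {a | p a}) = (Finset.univ.filter fun i : chevE8.Idx => p (wt i)).card := finrank_LS _

theorem hx_rl (ht : mx t = dz ω (Pi.single 0 1)) (H : Hx t h) : InT h ∧ ∀ a, rl h a = ((a 0 : ℤ) : K) := by
  obtain ⟨h2, h3⟩ := H.spec ht
  refine ⟨h2, fun a => ?_⟩
  conv_lhs => rw [IsMC.eq_sum_sr a, map_sum]
  rw [Finset.sum_eq_single 0]
  · rw [map_zsmul, h3, if_pos rfl, zsmul_eq_mul, mul_one]
  · intro j _ hj
    rw [map_zsmul, h3, if_neg hj, smul_zero]
  · intro h
    exact absurd (Finset.mem_univ _) h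

theorem zpow_eq_sq (hω : IsPrimitiveRoot ω 3) {m : ℤ} : ω ^ m = ω ^ 2 ↔ 3 ∣ m - 2 := by
  have h0 := hω.ne_zero (by norm_num)
  rw [← zpow_ofNat ω 2, ← div_eq_one_iff_eq (zpow_ne_zero _ h0), ← zpow_sub₀ h0, hω.zpow_eq_one_iff_dvd]
  rfl

theorem mem_VV [CharP K 2] (hω : IsPrimitiveRoot ω 3) {b μ : Q8} (ht : mx t = dz ω b) (hh : InT h)
    (hμ : ∀ a, rl h a = ((ex μ a : ℤ) : K)) {u : L8 K} : u ∈ VV ω t h ↔ u ∈ LS K {a | 3 ∣ ex b a - 2 ∧ 2 ∣ ex μ a} := by
  constructor
  · intro hu i hi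
    have h1 := congrFun hu.1 i
    have h2 := congrFun hu.2 i
    rw [act_dz ht, Pi.smul_apply, smul_eq_mul] at h1
    rw [br_T hh, hμ] at h2
    exact ⟨(zpow_eq_sq hω).1 (mul_right_cancel₀ hi h1),
      (CharP.intCast_eq_zero_iff K 2 _).1 ((mul_eq_zero.1 h2).resolve_right hi)⟩
  · intro hu
    refine ⟨funext fun i => ?_, funext fun i => ?_⟩
    · rw [act_dz ht, Pi.smul_apply, smul_eq_mul]
      by_cases hi : u i = 0
      · rw [hi, mul_zero, mul_zero]
      · rw [(zpow_eq_sq hω).2 (hu i hi).1]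
    · rw [br_T hh, hμ, Pi.zero_apply]
      by_cases hi : u i = 0
      · rw [hi, mul_zero]
      · rw [(CharP.intCast_eq_zero_iff K 2 _).2 (hu i hi).2, zero_mul]

theorem mem_VV0 [CharP K 2] (hω : IsPrimitiveRoot ω 3) (ht : mx t = dz ω (Pi.single 0 1)) (H : Hx t h) {u : L8 K} :
    u ∈ VV ω t h ↔ u ∈ LS K {a | a 0 = 2} := by
  obtain ⟨h1, h2⟩ := hx_rl ht H
  rw [mem_VV hω ht h1 (μ := Pi.single 0 1) fun a => by rw [ex_single, h2]]
  refine forall_congr' fun i => imp_congr_right fun _ => ?_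
  have h3 := wt_zero_bd i
  simp only [Set.mem_ofPred_eq, ex_single]
  omega

theorem hx_cj {k : G8 K} (H : Hx x z) : Hx (k⁻¹ * x * k) (act k⁻¹ z) := by
  have h1 := H.conj k⁻¹
  rwa [inv_inv] at h1

theorem card14 : (Finset.univ.filter fun i : chevE8.Idx => wt i 0 = 2).card = 14 := by decide +kernel

theorem dim14 [CharP K 2] (hω : IsPrimitiveRoot ω 3) (hc : Cj x ω (Pi.single 0 1)) (H : Hx x z) :
    finrank K (VV ω x z) ≤ 14 := by
  obtain ⟨k, hk⟩ := hc
  refine (fr_le k⁻¹ (U' := LS K {a | a 0 = 2}) fun u hu =>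
    (mem_VV0 hω (mx_of_semi hk) (hx_cj H)).1 ((VV_conj k).2 hu)).trans ?_
  exact ((fr_LS _).trans (by exact card14)).le

theorem exists_VV [CharP K 2] (hω : IsPrimitiveRoot ω 3) (hc : Cj x ω (Pi.single 0 1)) (H : Hx x z) :
    ∃ u ∈ VV ω x z, u ≠ 0 := by
  obtain ⟨k, hk⟩ := hc
  refine ⟨act k (ee K (Sum.inr ⟨239, by decide⟩)), (VV_conj k).1 ?_, fun e => ee_ne_zero _ (act_eq_zero e)⟩
  rw [act_inv]
  exact (mem_VV0 hω (mx_of_semi hk) (hx_cj H)).2 (ee_mem_LS (show wt _ 0 = 2 by decide +kernel))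

/-! ### elements of rank at most one -/

theorem minor {U : Submodule K (L8 K)} (hU : finrank K U ≤ 1) {a b : L8 K} (ha : a ∈ U) (hb : b ∈ U)
    (i j : chevE8.Idx) : a i * b j = a j * b i := by
  obtain ⟨v, hv⟩ := finrank_le_one_iff.1 hU
  obtain ⟨c, hc⟩ := hv ⟨a, ha⟩
  obtain ⟨d, hd⟩ := hv ⟨b, hb⟩
  have h1 : a = c • v.1 := (congrArg Subtype.val hc).symm
  have h2 : b = d • v.1 := (congrArg Subtype.val hd).symm
  rw [h1, h2]
  simp only [Pi.smul_apply, smul_eq_mul]
  ring

theorem br_ee_entry (h : L8 K) {r s u : Fin chevE8.nroots} (e : vec chevE8 8 u = vec chevE8 8 r + vec chevE8 8 s) :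
    br h (ee K (Sum.inr s)) (Sum.inr u) = h (Sum.inr r) * ((adA chevE8 (Sum.inr r) (Sum.inr u) (Sum.inr s) : ℤ) : K) := by
  rw [br, mulVec_ee, adm_apply, Finset.sum_eq_single (Sum.inr r)]
  · intro k _ hk
    by_cases h0 : adA chevE8 k (Sum.inr u) (Sum.inr s) = 0
    · rw [h0, Int.cast_zero, mul_zero]
    · have h1 := H288.E8L.adA_wt _ _ _ h0
      rw [wt_inr, wt_inr, e] at h1
      exact absurd (wt_inj (i := Sum.inr r) (add_right_cancel h1) (vec_ne_zero r)).symm hk
  · intro h0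
    exact absurd (Finset.mem_univ _) h0

theorem br_ee_far (h : L8 K) {i j : chevE8.Idx} (e : 2 < B0 (wt i - wt j) (wt i - wt j)) : br h (ee K j) i = 0 := by
  rw [br, mulVec_ee]
  by_contra h0
  obtain ⟨k, -, h1⟩ := adm_wt h0
  rw [h1, add_sub_cancel_right] at e
  exact absurd (norm_wt k) (not_le.2 e)

/-- the roots with first coordinate 2 -/
def r14 (b : ℕ) : Fin chevE8.nroots := ⟨226 + b % 14, by rw [nroots8]; omega⟩

theorem r14_zero : ∀ b < 14, vec chevE8 8 (r14 b) 0 = 2 := by decide +kernel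

theorem r14_add : ∀ b < 14, vec chevE8 8 (r14 b) + vec chevE8 8 (r14 (13 - b)) = ![4, 5, 7, 10, 8, 6, 4, 2] := by
  decide +kernel

/-- differences -/
def t14 : List ℕ := [12, 11, 25, 10, 24, 38, 9, 23, 37, 51, 8, 22, 36, 50, 64, 7, 21, 35, 49, 63, 77, 6, 20, 34, 48, 62, 76, 5,
  19, 33, 47, 61, 4, 18, 32, 46, 3, 17, 31, 2, 16, 1, 14, 29, 28, 44, 43, 42, 59, 58, 57, 56, 74, 73, 72, 71,
  70, 89, 88, 87, 86, 85, 84, 103, 102, 101, 100, 99, 98, 116, 115, 114, 113, 112, 129, 128, 127, 126, 142, 141, 140, 155, 154, 168]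

theorem t14_spec : ∀ r : Fin chevE8.nroots, vec chevE8 8 r 0 = 0 → t14.getD (r - 78) 0 / 14 < 14 ∧
    vec chevE8 8 (r14 (t14.getD (r - 78) 0 / 14)) = vec chevE8 8 r + vec chevE8 8 (r14 (t14.getD (r - 78) 0 % 14)) := by
  decide +kernel

theorem B0_r14 : ∀ b < 14, (∑ i, ∑ j, (vec chevE8 8 (r14 (13 - b)) - vec chevE8 8 (r14 b)) i * cartanOf chevE8 8 i j *
    (vec chevE8 8 (r14 (13 - b)) - vec chevE8 8 (r14 b)) j) = 4 := by decide +kernel

theorem exists_diff {r : Fin chevE8.nroots} (hr : vec chevE8 8 r 0 = 0) : ∃ b < 14, ∃ b' < 14,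
    vec chevE8 8 (r14 b') = vec chevE8 8 r + vec chevE8 8 (r14 b) :=
  ⟨_, Nat.mod_lt _ (by norm_num), _, (t14_spec r hr).1, (t14_spec r hr).2⟩

theorem rk1_std {v : L8 K} (hv : v ∈ LS K {a | a 0 = 0}) (hr : finrank K ((LS K {a | a 0 = 2}).map (brL K v)) ≤ 1) :
    InT v ∧ ∀ j, j ≠ 0 → rl v (sr j) = 0 := by
  have hm : ∀ b < 14, br v (ee K (Sum.inr (r14 b))) ∈ (LS K {a | a 0 = 2}).map (brL K v) := fun b hb =>
    ⟨_, ee_mem_LS (i := Sum.inr (r14 b)) (r14_zero b hb), rfl⟩
  have h1 : InT v := by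
    intro r
    by_contra h0
    obtain ⟨b, hb, b', hb', e⟩ := exists_diff (r := r) (hv _ h0)
    have e' : vec chevE8 8 (r14 (13 - b)) = vec chevE8 8 r + vec chevE8 8 (r14 (13 - b')) := by
      have h2 := (r14_add b hb).trans (r14_add b' hb').symm
      rw [e, add_comm (vec chevE8 8 r), add_assoc] at h2
      exact add_left_cancel h2
    have h2 := minor hr (hm b hb) (hm (13 - b') (by omega)) (Sum.inr (r14 b')) (Sum.inr (r14 (13 - b)))
    rw [br_ee_entry v e, br_ee_entry v e', br_ee_far v (i := Sum.inr (r14 (13 - b))) (by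
      rw [wt_inr, wt_inr, bf_apply, B0_r14 b hb]; norm_num), zero_mul] at h2
    exact mul_ne_zero (mul_ne_zero h0 (adA_ne e)) (mul_ne_zero h0 (adA_ne e')) h2
  have h2 : ∀ b < 14, ∀ b' < 14, b ≠ b' → rl v (vec chevE8 8 (r14 b)) * rl v (vec chevE8 8 (r14 b')) = 0 := by
    intro b hb b' hb' hne
    have h3 := minor hr (hm b hb) (hm b' hb') (Sum.inr (r14 b)) (Sum.inr (r14 b'))
    have h4 : (Sum.inr (r14 b') : chevE8.Idx) ≠ Sum.inr (r14 b) := fun e => by
      have h5 : 226 + b' % 14 = 226 + b % 14 := congrArg Fin.val (Sum.inr.inj e)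
      omega
    rwa [br_T h1, br_T h1, br_T h1, ee_self, ee_self, ee_ne h4, mul_one, mul_one, mul_zero, zero_mul] at h3
  have h3 : ∀ b < 14, rl v (vec chevE8 8 (r14 b)) = 0 := by
    intro b hb
    by_contra h0
    have h4 : ∀ b' < 14, b ≠ b' → rl v (vec chevE8 8 (r14 b')) = 0 := fun b' hb' hne =>
      (mul_eq_zero.1 (h2 b hb b' hb' hne)).resolve_left h0
    obtain ⟨c, hc, k1, k2⟩ : ∃ c < 14, b ≠ c ∧ b ≠ 13 - c := by
      by_cases e : b = 0 ∨ b = 13
      · exact ⟨1, by omega, by omega, by omega⟩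
      · exact ⟨0, by omega, by omega, by omega⟩
    have h5 := congrArg (rl v) ((r14_add b hb).trans (r14_add c hc).symm)
    rw [map_add, map_add, h4 c hc k1, h4 _ (by omega) k2, h4 (13 - b) (by omega) (by omega), add_zero, add_zero] at h5
    exact h0 h5
  refine ⟨h1, fun j hj => ?_⟩
  obtain ⟨r, hr⟩ := exists_idx (isRoot_sr cs8 e8T.isCartan j)
  obtain ⟨b, hb, b', hb', e⟩ := exists_diff (r := r) (by rw [hr, sr_ne hj.symm])
  have h4 := congrArg (rl v) e
  rwa [map_add, h3 b hb, h3 b' hb', add_zero, hr, eq_comm] at h4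

/-- **elements of rank at most one** -/
theorem rk1 [CharP K 2] (hω : IsPrimitiveRoot ω 3) (hc : Cj x ω (Pi.single 0 1)) (H : Hx x z) {v : L8 K}
    (hv : act x v = v) (hr : finrank K ((VV ω x z).map (brL K v)) ≤ 1) : ∃ κ : K, v = κ • z := by
  obtain ⟨k, hk⟩ := hc
  have ht := mx_of_semi hk
  obtain ⟨h1, h2⟩ := hx_rl ht (hx_cj H)
  obtain ⟨h3, h4⟩ := rk1_std (v := act k⁻¹ v) (fun i hi => by
    have h5 := congrFun (act_cj k x v) i
    rw [hv, act_dz ht, mul_eq_right₀ hi, hω.zpow_eq_one_iff_dvd, ex_single] at h5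
    have h6 := wt_zero_bd i
    show wt i 0 = 0
    omega) (le_trans (fr_le k (by
      rintro _ ⟨u, hu, rfl⟩
      refine ⟨act k u, (VV_conj k).1 ?_, ?_⟩
      · rw [act_inv]
        exact (mem_VV0 hω ht (hx_cj H)).2 hu
      · rw [brL_apply, brL_apply, act_br, act_inv'])) hr)
  refine ⟨rl (act k⁻¹ v) (sr 0), act_injective k⁻¹ ?_⟩
  rw [act_smul]
  refine inT_ext h3 (fun r => by rw [Pi.smul_apply, h1 r, smul_zero]) fun j => ?_
  rw [rl_smul, h2]
  by_cases hj : j = 0
  · rw [hj, sr_self, Int.cast_one, mul_one]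
  · rw [h4 j hj, sr_ne (Ne.symm hj), Int.cast_zero, mul_zero]

/-! ### a commuting element of order 3 -/

theorem sum_sq {S : Finset chevE8.Idx} {M : Fin 8 → Fin 8 → ℤ} (h : ∀ i k, ∑ j ∈ S, wt j i * wt j k = M i k) (y : Q8) :
    ∑ j ∈ S, ex y (wt j) ^ 2 = ∑ i, ∑ k, y i * M i k * y k := by
  simp only [← h, ex, sq, Finset.sum_mul, Finset.mul_sum]
  rw [Finset.sum_comm]
  refine Finset.sum_congr rfl fun i _ => ?_
  rw [Finset.sum_comm]
  exact Finset.sum_congr rfl fun k _ => Finset.sum_congr rfl fun j _ => by ring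

theorem tab_all : ∀ i k : Fin 8, ∑ j : chevE8.Idx, wt j i * wt j k = 60 * B8 i k := by decide +kernel

theorem tab_14 : ∀ i k : Fin 8, ∑ j ∈ Finset.univ.filter fun i : chevE8.Idx => wt i 0 = 2, wt j i * wt j k =
    2 * B8 i k + 3 * (B8 0 i * B8 0 k) := by decide +kernel

theorem sum_all (y : Q8) : ∑ j : chevE8.Idx, ex y (wt j) ^ 2 = 60 * nm y := by
  rw [sum_sq tab_all, nm, bw]
  simp only [Finset.mul_sum]
  exact Finset.sum_congr rfl fun i _ => Finset.sum_congr rfl fun k _ => by ring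

theorem bw_e0 (y : Q8) : bw (Pi.single 0 1) y = ∑ k, B8 0 k * y k := by
  rw [bw, Finset.sum_eq_single 0]
  · simp
  · intro i _ hi
    simp [Pi.single_eq_of_ne hi]
  · intro h
    exact absurd (Finset.mem_univ _) h

theorem sum_14 (y : Q8) : ∑ j ∈ Finset.univ.filter fun i : chevE8.Idx => wt i 0 = 2, ex y (wt j) ^ 2 =
    2 * nm y + 3 * bw (Pi.single 0 1) y ^ 2 := by
  rw [sum_sq tab_14, bw_e0, nm, bw, sq]
  simp only [Finset.mul_sum, Finset.sum_mul, ← Finset.sum_add_distrib]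
  exact Finset.sum_congr rfl fun i _ => Finset.sum_congr rfl fun k _ => by ring

theorem mv_le (y w : Q8) : (mv 3 y : ℤ) ≤ 60 * nm (y - (3 : ℤ) • w) := by
  rw [← sum_all, mv, Finset.card_filter]
  push_cast
  refine Finset.sum_le_sum fun j _ => ?_
  rw [ex_sub, ex_smul]
  split_ifs with h
  · have h1 : ex y (wt j) - 3 * ex w (wt j) ≠ 0 := by omega
    have h2 := pow_pos (abs_pos.2 h1) 2
    rw [sq_abs] at h2
    omega
  · exact sq_nonneg _

/-- the coweight of a lattice vector -/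
def cw (a : Q8) : Q8 := fun i => pairing (cartanOf chevE8 8) i a

theorem bw_cw (a y : Q8) : bw (cw a) y = ex y a := by
  have h1 : cw a = ∑ k, a k • cartanOf chevE8 8 k := by
    funext i
    rw [cw, pairing, Finset.sum_apply]
    exact Finset.sum_congr rfl fun k _ => by rw [Pi.smul_apply, smul_eq_mul, mul_comm, cartan_symm]
  have h2 : ∀ (s : Finset (Fin 8)) (f : Fin 8 → Q8), bw (∑ k ∈ s, f k) y = ∑ k ∈ s, bw (f k) y := by
    intro s f
    induction s using Finset.induction_on with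
    | empty => simp only [bw, _root_.Finset.sum_apply, _root_.Finset.sum_empty, _root_.MulZeroClass.zero_mul, _root_.Finset.sum_const_zero]
    | insert k s hk ih => rw [Finset.sum_insert hk, Finset.sum_insert hk, bw_add, ih]
  rw [h1, h2, ex]
  exact Finset.sum_congr rfl fun k _ => by rw [bw_smul, bw_cartan]

theorem ex_cw (a b : Q8) : ex (cw a) b = B0 b a := by
  rw [ex, bf_apply]
  refine Finset.sum_congr rfl fun i _ => ?_
  rw [cw, pairing, Finset.mul_sum]
  exact Finset.sum_congr rfl fun j _ => (mul_assoc _ _ _).symm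

/-- small coweights -/
def Sm (y : Q8) : Prop := nm y = 4 ∧ ∀ j, -2 ≤ ex y (wt j) ∧ ex y (wt j) ≤ 2

theorem Sm.refl {y : Q8} (h : Sm y) (i : Fin 8) : Sm (srefl chevE8 8 i y) := by
  refine ⟨(nm_srefl y i).trans h.1, fun j => ?_⟩
  rw [← ex_refl]
  rcases j with j | r
  · rw [wt_inl, act8_zero, ex_zero]
    norm_num
  · obtain ⟨s, hs⟩ := exists_idx ((rt_vec r).act (cs8.simple i))
    have hs' : act8 (cs8.simple i) (wt (Sum.inr r)) = wt (Sum.inr s) := hs.symm
    rw [hs']
    exact h.2 _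

theorem nm_e0 : nm (Pi.single 0 1) = 4 := by decide +kernel

theorem sm_e0 : Sm (Pi.single 0 1) := ⟨nm_e0, fun j => by rw [ex_single]; exact wt_zero_bd j⟩

theorem vals {b : Q8} (hb : Sm b) (h1 : mv 3 (Pi.single 0 1 + b) = 168) (h2 : mv 3 (Pi.single 0 1 - b) = 168)
    (h3 : ((nm (Pi.single 0 1 + b) : ℤ) : ZMod 3) = 2) :
    (∀ j, wt j 0 = 2 → -1 ≤ ex b (wt j) ∧ ex b (wt j) ≤ 1) ∧ (∃ a, ¬ 2 ∣ ex b a) ∧
      (Finset.univ.filter fun j : chevE8.Idx => wt j 0 = 2 ∧ ex b (wt j) = 0).card = 6 := by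
  have k1 := mv_le (Pi.single 0 1 + b) 0
  have k2 := mv_le (Pi.single 0 1 - b) 0
  rw [smul_zero, sub_zero] at k1 k2
  have k3 : (3 : ℤ) ∣ nm (Pi.single 0 1 + b) - 2 := by
    have h4 := (ZMod.intCast_zmod_eq_zero_iff_dvd (nm (Pi.single 0 1 + b) - 2) 3).1 (by rw [Int.cast_sub, h3]; rfl)
    exact h4
  rw [nm_add, nm_e0, hb.1] at k1 k3
  rw [nm_sub, nm_e0, hb.1] at k2
  have k4 : bw (Pi.single 0 1) b = 0 := by (clear * - h1 h2 k1 k2 k3; solve | lia | omega)
  have k5 : ∀ j, wt j 0 = 2 → -1 ≤ ex b (wt j) ∧ ex b (wt j) ≤ 1 := by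
    intro j hj
    have k6 := mv_le (Pi.single 0 1 + b) (cw (wt j))
    have k7 := mv_le (Pi.single 0 1 - b) (cw (wt j))
    have k8 : nm (cw (wt j)) ≤ 2 := by rw [nm, bw_cw, ex_cw]; exact norm_wt j
    rw [nm_sub, nm_smul, bw_comm, bw_smul, bw_cw] at k6 k7
    rw [nm_add, ex_add, ex_single, hj, nm_e0, hb.1, k4] at k6
    rw [nm_sub, ex_sub, ex_single, hj, nm_e0, hb.1, k4] at k7
    (clear * - h1 h2 k6 k7 k8; solve | lia | omega)
  have k6 := sum_14 b
  rw [hb.1, k4] at k6
  have k7 : ∑ j ∈ Finset.univ.filter fun i : chevE8.Idx => wt i 0 = 2,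
      (ex b (wt j) ^ 2 + if ex b (wt j) = 0 then 1 else 0) = 14 := by
    rw [Finset.sum_congr rfl (g := fun _ => (1 : ℤ)), Finset.sum_const, card14]
    · rfl
    · intro j hj
      obtain ⟨l1, l2⟩ := k5 j (Finset.mem_filter.1 hj).2
      generalize ex b (wt j) = m at *
      interval_cases m <;> rfl
  rw [Finset.sum_add_distrib, k6, Finset.sum_boole, Finset.filter_filter] at k7
  refine ⟨k5, ?_, by omega⟩
  by_contra hc
  push Not at hc
  rw [Finset.sum_eq_zero fun j hj => ?_] at k6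
  · omega
  · obtain ⟨l1, l2⟩ := k5 j (Finset.mem_filter.1 hj).2
    have l3 := hc (wt j)
    rw [show ex b (wt j) = 0 by omega]
    rfl

section

variable {F : Type u} [Field F] [Finite F] [CharP F 2] {ω : Kb F} {x y : G8 (Kb F)} {z z' : L8 (Kb F)}

theorem tb_80 : ∀ e ∈ Reg5.Cls.tb 3, e.2 = 80 → (fun i : Fin 8 => ((e.1.getD i 0 : ℕ) : ℤ)) = Pi.single 1 1 := by
  decide +kernel

theorem pair_std (hω : IsPrimitiveRoot ω 3) (hx : x ^ 3 = 1) (hy : y ^ 3 = 1) (hc : Commute x y) {d : ℕ} {a : Q8}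
    (ha : ∀ e ∈ Reg5.Cls.tb 3, e.2 = d → (fun i : Fin 8 => ((e.1.getD i 0 : ℕ) : ℤ)) = a)
    (hd : ev (LK (Kb F) x) 1 = d) : ∃ b, Cj2 x y ω a b := by
  obtain ⟨s, b, hs, h⟩ := pair_kac Nat.prime_three (by exact_mod_cast three_ne) hω hx hy hc
  obtain ⟨e, he, e1⟩ := Reg5.Cls.tb_all 3 (by decide) ⟨s 0, by (clear * - hs; solve | lia | omega)⟩ ⟨s 1, by (clear * - hs; solve | lia | omega)⟩ ⟨s 2, by (clear * - hs; solve | lia | omega)⟩ ⟨s 3, by omega⟩
    ⟨s 4, by (clear * - hs; solve | lia | omega)⟩ ⟨s 5, by omega⟩ ⟨s 6, by (clear * - hs; solve | lia | omega)⟩ ⟨s 7, by omega⟩ hs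
  have e2 : (fun i : Fin 8 => ((e.1.getD i 0 : ℕ) : ℤ)) = fun i => (s i : ℤ) := by
    rw [e1]
    funext i
    fin_cases i <;> rfl
  have e3 := Reg5.Cls.tb_mv 3 (by decide) e he
  have e4 := dfx_of_cj hω h.left
  rw [← ev_eq_dfx, hd] at e4
  rw [e2] at e3
  rw [← e2, ha e he (by omega)] at h
  exact ⟨b, h⟩

/-- **a commuting element of class 92** -/
theorem dim6 (hω : IsPrimitiveRoot ω 3) (hx : x ^ 3 = 1) (hy : y ^ 3 = 1) (hc : Commute x y)
    (d1 : ev (LK (Kb F) x) 1 = 92) (d2 : ev (LK (Kb F) y) 1 = 92) (d3 : ev (LK (Kb F) (x * y)) 1 = 80)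
    (d4 : ev (LK (Kb F) (x * y⁻¹)) 1 = 80) (H : Hx x z) (H' : Hx y z') :
    (∀ u ∈ VV ω x z, br z' u = act y u + act y⁻¹ u) ∧ 6 ≤ finrank (Kb F) (VV ω x z ⊓ Fx y : Submodule (Kb F) _) := by
  have := charKb (F := F)
  have h0 := hω.ne_zero (by norm_num)
  obtain ⟨b₀, h⟩ := pair_std hω hx hy hc (fun e he => (tb_single e he).1) d1
  have hy0 := cj_92 three_ne hω hy d2
  obtain ⟨b, hb, hbb⟩ := cj_ind hω (by norm_num) h.right hy0 (P := Sm) (fun _ i hy => hy.refl i) sm_e0
  replace h := h.congr hω (by norm_num) (fun _ => rfl) fun i => (hbb i).symm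
  have k1 := dfx_of_cj hω (h.mul h0)
  have k2 := dfx_of_cj hω (h.mul_inv h0)
  have k3 := cj_q3 three_ne hω (by rw [hc.mul_pow, hx, hy, mul_one]) (h.mul h0)
  rw [← ev_eq_dfx] at k1 k2
  rw [d3] at k1 k3
  rw [d4] at k2
  obtain ⟨v1, v2, v3⟩ := vals hb (by omega) (by omega) k3
  obtain ⟨k, c1, c2⟩ := h
  have ht := mx_of_semi c1
  have ht' := mx_of_semi c2
  have ht'' := mx_of_semi (semi_inv h0 c2)
  obtain ⟨w, w1, w2⟩ := exists_hm (K := Kb F) b
  have k4 := hx_dz hω ht' w1 w2 (fun j hj => by have := hb.2 j; omega) v2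
  have k5 : act k⁻¹ z' = w := hx_uniq (by simpa only [_root_.inv_inv, _root_.Fin.isValue] using cj_conj hy0 k⁻¹) (hx_cj H') k4
  refine ⟨fun u hu => act_injective k⁻¹ ?_, ?_⟩
  · have h1 := (mem_VV0 hω ht (hx_cj H)).1 ((VV_conj k).2 hu)
    rw [act_br, act_add, ← act_cj, ← act_cj, k5]
    funext i
    rw [br_T w1, w2, Pi.add_apply, act_dz ht', act_dz ht'', ex_neg]
    by_cases hi : act k⁻¹ u i = 0
    · rw [hi, mul_zero, mul_zero, mul_zero, add_zero]
    · obtain ⟨l1, l2⟩ := v1 i (h1 i hi)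
      have l3 := (om_zpow hω).1
      have l4 := om_rel hω
      have l5 : (2 : Kb F) = 0 := CharTwo.two_eq_zero
      generalize ex b (wt i) = m at *
      generalize act k⁻¹ u i = c
      interval_cases m
      · rw [neg_neg, l3, zpow_one]
        push_cast
        linear_combination -c * l4
      · simp only [neg_zero, zpow_zero]
        push_cast
        linear_combination -c * l5
      · rw [l3, zpow_one]
        push_cast
        linear_combination -c * l4 + c * l5
  · refine ((fr_LS (K := Kb F) fun a => a 0 = 2 ∧ ex b a = 0).trans v3).ge.trans ?_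
    refine fr_le k fun u hu => ⟨(VV_conj k).1 ?_, act_injective k⁻¹ ?_⟩
    · rw [act_inv]
      exact (mem_VV0 hω ht (hx_cj H)).2 (LS_mono (fun a ha => ha.1) hu)
    · rw [← act_cj, act_inv]
      funext i
      rw [act_dz ht']
      by_cases hi : u i = 0
      · rw [hi, mul_zero]
      · rw [(hu i hi).2, zpow_zero, one_mul]

/-- the test for the elements of order 15 -/
def ok15 (y : List ℕ) : Bool :=
  bif Nat.beq (pw 15 (pk 15 y) 10 0) 92 && Nat.beq (pw 15 (pk 15 y) 6 0) 48 && rat 15 (pk 15 y) 2 then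
    y == [1, 1, 0, 0, 1, 0, 0, 2] else true

theorem chk15 : allAlc th8 15 ok15 = true := by
  have h : ok15 = fun y => Nat.rec (motive := fun _ => Bool) (bif Nat.beq (pw 15 0 10 0) 92 && Nat.beq (pw 15 0 6 0) 48 && rat 15 0 2 then
      y == [1, 1, 0, 0, 1, 0, 0, 2] else true) (fun n _ => bif Nat.beq (pw 15 (Nat.succ n) 10 0) 92 &&
      Nat.beq (pw 15 (Nat.succ n) 6 0) 48 && rat 15 (Nat.succ n) 2 then y == [1, 1, 0, 0, 1, 0, 0, 2] else true) (pk 15 y) := by
    funext y
    delta ok15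
    cases pk 15 y <;> rfl
  rw [h]
  delta pk
  rw [sumS_eq, alcS_eq]
  decide +kernel

theorem z15 : ∀ j : chevE8.Idx, 3 ∣ ex (toQ [1, 1, 0, 0, 1, 0, 0, 2]) (wt j) → 2 ∣ ex (toQ [1, 0, 0, 0, 1, 0, 0, 1]) (wt j) := by
  decide +kernel

theorem card15 : (Finset.univ.filter fun j : chevE8.Idx => (3 ∣ ex (toQ [1, 1, 0, 0, 1, 0, 0, 2]) (wt j) - 2 ∧
    2 ∣ ex (toQ [1, 0, 0, 0, 1, 0, 0, 1]) (wt j)) ∧ 5 ∣ ex (toQ [1, 1, 0, 0, 1, 0, 0, 2]) (wt j)).card = 2 := by
  decide +kernel

theorem ok15_spec {y : List ℕ} (h : ok15 y = true) (h1 : pw 15 (pk 15 y) 10 0 = 92) (h2 : pw 15 (pk 15 y) 6 0 = 48)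
    (h3 : rat 15 (pk 15 y) 2 = true) : y = [1, 1, 0, 0, 1, 0, 0, 2] := by
  rw [ok15, h1, h2, h3] at h
  exact eq_of_beq h

theorem dz_pow {ζ : K} (y : Q8) (m : ℕ) : dz ζ y ^ m = dz (ζ ^ m) y := by
  rw [dz, dz, Matrix.diagonal_pow]
  congr 1
  funext j
  rw [Pi.pow_apply, ← zpow_natCast, ← zpow_natCast, ← zpow_mul, ← zpow_mul, mul_comm]

/-- **a commuting element of order 5** -/
theorem dim2 {ζ : Kb F} (hζ : IsPrimitiveRoot ζ 15) {g : G8 (Kb F)} (hg : g ^ 15 = 1) (hr : IsConj g (g ^ 2))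
    (d1 : ev (LK (Kb F) (g ^ 10)) 1 = 92) (d2 : ev (LK (Kb F) (g ^ 6)) 1 = 48) (H : Hx (g ^ 10) z) :
    finrank (Kb F) (VV (ζ ^ 10) (g ^ 10) z ⊓ Fx (g ^ 6) : Submodule (Kb F) _) ≤ 2 := by
  have := charKb (F := F)
  have hω : IsPrimitiveRoot (ζ ^ 10) 3 := by
    have h1 := (hζ.pow (by norm_num) (show 15 = 5 * 3 by norm_num)).pow_of_coprime 2 (by norm_num)
    rwa [← pow_mul] at h1
  have h5 : IsPrimitiveRoot (ζ ^ 6) 5 := by
    have h1 := (hζ.pow (by norm_num) (show 15 = 3 * 5 by norm_num)).pow_of_coprime 2 (by norm_num)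
    rwa [← pow_mul] at h1
  obtain ⟨y, h1, h2, h3⟩ := exists_cj (F := F) (N := 15) (fun e => by
    rw [CharP.cast_eq_zero_iff F 2] at e
    omega) hζ hg
  have h4 := of_allAlc chk15 h1 h2
  have k1 := cj_ev_pow hζ (by norm_num) h3 10 (k := 0) (by norm_num)
  have k2 := cj_ev_pow hζ (by norm_num) h3 6 (k := 0) (by norm_num)
  rw [pow_zero] at k1 k2
  rw [ok15_spec h4 (k1.symm.trans d1) (k2.symm.trans d2) (cj_rat hζ (by norm_num) h3 hr)] at h3
  obtain ⟨k, hk⟩ := h3
  have ht : ∀ m : ℕ, mx (k⁻¹ * g ^ m * k) = dz (ζ ^ m) (toQ [1, 1, 0, 0, 1, 0, 0, 2]) := fun m => by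
    have e := conj_pow (a := k⁻¹) (b := g) (i := m)
    rw [inv_inv] at e
    rw [← dz_pow, ← mx_of_semi hk, ← mx_pow, e]
  obtain ⟨w, w1, w2⟩ := exists_hm (K := Kb F) (toQ [1, 0, 0, 0, 1, 0, 0, 1])
  have k4 := hx_dz hω (ht 10) w1 w2 z15 ⟨Pi.single 0 1, by decide +kernel⟩
  have k5 : act k⁻¹ z = w := hx_uniq (by
    simpa using cj_conj (cj_92 three_ne hω (by rw [← pow_mul, show 10 * 3 = 15 * 2 from rfl, pow_mul, hg, one_pow]) d1)
      k⁻¹) (hx_cj H) k4
  refine le_trans ?_ ((fr_LS (K := Kb F) fun a => (3 ∣ ex (toQ [1, 1, 0, 0, 1, 0, 0, 2]) a - 2 ∧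
    2 ∣ ex (toQ [1, 0, 0, 0, 1, 0, 0, 1]) a) ∧ 5 ∣ ex (toQ [1, 1, 0, 0, 1, 0, 0, 2]) a).trans card15).le
  refine fr_le k⁻¹ fun u hu i hi => ⟨(mem_VV hω (ht 10) w1 w2).1 (k5 ▸ (VV_conj k).2 hu.1) i hi, ?_⟩
  have h6 := congrFun (act_cj k (g ^ 6) u) i
  rwa [show act (g ^ 6) u = u from hu.2, act_dz (ht 6), mul_eq_right₀ hi, h5.zpow_eq_one_iff_dvd] at h6

end

end Cfsg.Agent.E8A.TwoH

private theorem dce_4b1736374302 : _root_.True := by
  try have : _root_.True := by simp only [_root_.Cfsg.Agent.E8A.TwoH.ok15.eq_1]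
  try have : _root_.True := by simp only [_root_.Cfsg.Agent.E8A.TwoH.cw.eq_1]
  exact _root_.True.intro
end

-- part: E8A/TwoB/Gl9
section
prune_inst 0x10030440000020000000002400007000200000000088800800002000ec0884000000060000010009000008020000048110001000208000000000000000000000000000000000000000008000080000000000000000000000000000000000000000000000
set_option linter.all false
open scoped Cfsg.Agent.FastGrp

/-!
# The subalgebra of type `A₈` of `E₈` in characteristic 2 (helper44)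

* `io : Matrix (Fin 9) (Fin 9) K →ₗ[K] L8 K`; `io_br`, `io_kf`, `io_one`, `io_inj`, `io_onto`;
* `Lk j g M M'` : `g` acts as the matrix `M`; `Fr x j` : the fixed space of `x` as a matrix algebra; `fr_io`.
-/

set_option autoImplicit false
set_option maxRecDepth 100000

namespace Cfsg.Agent.E8A.TwoB

open CoxeterSystem Cfsg Cfsg.Lie Module
open Matrix hiding J J_transpose
open Cfsg.Agent.ChevalleyStructure Cfsg.Agent.ChevalleyStructure.CoxeterGeom
  Cfsg.Agent.ChevalleyStructure.CoxeterGeomTypes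
open Cfsg.Agent.Tits.Roots Cfsg.Agent.Nodes.Reps Cfsg.Agent.Nodes.BNOf Cfsg.Agent.Nodes.RGDChev
open Cfsg.Agent.KFacts.RgdChevCoord Cfsg.Agent.H129.TorusChar
open Cfsg.Agent.H942.E8Tab (e8T)
open Cfsg.Agent.H288.E8L (Q8 wt wt_inl wt_inr rt_vec vec_ne_zero exists_idx wt_inj)
open Cfsg.Agent.H897.T5Lat (bf_apply)
open Cfsg.Agent.E8A.Frm (B0 fm8 finW8)
open Cfsg.Agent.E8A.Inf (kf kf_comm kf_act kf_act')
open Cfsg.Agent.E8A.Par (op vec_op kf_ee act_xr Extr)
open Cfsg.Agent.E8A.Reg5.Cls (ex dz Cj)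
open Cfsg.Agent.E8A.Two Cfsg.Agent.E8A.TwoH

universe u

/-! ### the lattice -/

/-- partial sums of a chain of type `A₈` -/
def v9 (i : Fin 9) : Q8 := fun k =>
  ([[0, 0, 0, 0, 0, 0, 0, 0], [1, 0, 0, 0, 0, 0, 0, 0], [1, 0, 1, 0, 0, 0, 0, 0], [1, 0, 1, 1, 0, 0, 0, 0],
    [1, 0, 1, 1, 1, 0, 0, 0], [1, 0, 1, 1, 1, 1, 0, 0], [1, 0, 1, 1, 1, 1, 1, 0], [1, 0, 1, 1, 1, 1, 1, 1],
    [-1, -3, -3, -5, -4, -3, -2, -1]].getD i []).getD k 0

/-- three times the weights of the natural module -/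
def nn (i : Fin 9) : Q8 := fun k => 3 * v9 i k - [2, -1, 1, 0, 0, 0, 0, 0].getD k 0

/-- the indices of the roots -/
def iA : List (List ℕ) := [[0, 162, 163, 164, 165, 166, 167, 168, 14], [77, 0, 135, 136, 137, 138, 139, 140, 6],
  [76, 104, 0, 130, 131, 132, 133, 134, 5], [75, 103, 109, 0, 126, 127, 128, 129, 4], [74, 102, 108, 113, 0, 123,
  124, 125, 3], [73, 101, 107, 112, 116, 0, 121, 122, 2], [72, 100, 106, 111, 115, 118, 0, 120, 1], [71, 99, 105,
  110, 114, 117, 119, 0, 0], [225, 233, 234, 235, 236, 237, 238, 239, 0]]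

/-- the root `v i - v j` -/
def ra (i j : Fin 9) : Fin chevE8.nroots := ⟨(iA.getD j []).getD i 0 % 240, Nat.mod_lt _ (by norm_num)⟩

theorem vec_ra : ∀ i j : Fin 9, i ≠ j → vec chevE8 8 (ra i j) = v9 i - v9 j := by decide +kernel

private noncomputable def _root_.Cfsg.Agent.LsF.fa4fc89_0 : {f // @Cfsg.Agent.ChevalleyStructure.RootVecTab.dig = f} := ⟨_, by first | (delta Cfsg.Agent.ChevalleyStructure.RootVecTab.dig; rewrite [Cfsg.Agent.LsF.nmul_pat]; exact rfl) | exact rfl⟩
private noncomputable def _root_.Cfsg.Agent.LsF.fa4fc89_1 : {f // @Cfsg.Agent.ChevalleyStructure.RootVecTab.packTab = f} := ⟨_, by first | (delta Cfsg.Agent.ChevalleyStructure.RootVecTab.packTab; rewrite [Cfsg.Agent.LsF.instDecEq_eq, Cfsg.Agent.LsF.ite_eq]; exact rfl) | exact rfl⟩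
private noncomputable def _root_.Cfsg.Agent.LsF.fa4fc89_2 : {f // @Cfsg.Agent.ChevalleyStructure.RootVecTab.code = f} := ⟨_, by first | (delta Cfsg.Agent.ChevalleyStructure.RootVecTab.code; rewrite [Cfsg.Agent.LsF.fa4fc89_1.2, Cfsg.Agent.LsF.nmul_pat, Cfsg.Agent.LsF.npow_pat]; exact rfl) | exact rfl⟩
private noncomputable def _root_.Cfsg.Agent.LsF.fa4fc89_3 : {f // @Cfsg.Agent.ChevalleyStructure.RootVec.rt = f} := ⟨_, by first | (delta Cfsg.Agent.ChevalleyStructure.RootVec.rt; rewrite [Cfsg.Agent.LsF.fa4fc89_0.2, Cfsg.Agent.LsF.fa4fc89_2.2, Cfsg.Agent.LsF.nsub_pat, Cfsg.Agent.LsF.isub_pat, Cfsg.Agent.LsF.icast_pat, Cfsg.Agent.LsF.decLt_eq, Cfsg.Agent.LsF.dAnd_eq, Cfsg.Agent.LsF.ite_eq]; exact rfl) | exact rfl⟩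
private noncomputable def _root_.Cfsg.Agent.LsF.fa4fc89_4 : {f // @Cfsg.Agent.Nodes.RGDChev.vec = f} := ⟨_, by first | (delta Cfsg.Agent.Nodes.RGDChev.vec; rewrite [Cfsg.Agent.LsF.fa4fc89_3.2]; exact rfl) | exact rfl⟩
theorem exists_ra : ∀ r : Fin chevE8.nroots, 3 ∣ vec chevE8 8 r 1 → ∃ i j, i ≠ j ∧ r = ra i j := by (refine of_decide_eq_true ?_; (try (rewrite [Cfsg.Agent.LsF.fa4fc89_4.2, Cfsg.Agent.LsF.dAnd_eq, Cfsg.Agent.LsF.dNot_eq, Cfsg.Agent.LsF.dFinEq_eq, Cfsg.Agent.LsF.dForallFin_eq, Cfsg.Agent.LsF.dExistsFin_eq, Cfsg.Agent.LsF.dAllP_eq, Cfsg.Agent.LsF.idDvd_eq, Cfsg.Agent.LsF.decide_eq])); decide +kernel)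

theorem v9_one : ∀ i : Fin 9, 3 ∣ v9 i 1 := by decide

private noncomputable def _root_.Cfsg.Agent.LsF.fa4fc89_5 : {f // @Cfsg.Agent.E8A.TwoB.v9 = f} := ⟨_, by first | (delta Cfsg.Agent.E8A.TwoB.v9; rewrite [Cfsg.Agent.LsF.ineg_pat, Cfsg.Agent.LsF.getD_eq]; exact rfl) | exact rfl⟩
private noncomputable def _root_.Cfsg.Agent.LsF.fa4fc89_6 : {f // @Cfsg.Agent.E8A.TwoB.nn = f} := ⟨_, by first | (delta Cfsg.Agent.E8A.TwoB.nn; rewrite [Cfsg.Agent.LsF.fa4fc89_5.2, Cfsg.Agent.LsF.imul_pat, Cfsg.Agent.LsF.isub_pat, Cfsg.Agent.LsF.ineg_pat, Cfsg.Agent.LsF.getD_eq]; exact rfl) | exact rfl⟩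
private noncomputable def _root_.Cfsg.Agent.LsF.fa4fc89_7 : {f // @Cfsg.Lie.ChevalleyDatum.cartan = f} := ⟨_, by first | (delta Cfsg.Lie.ChevalleyDatum.cartan; rewrite [Cfsg.Agent.LsF.agetD_eq]; exact rfl) | exact rfl⟩
private noncomputable def _root_.Cfsg.Agent.LsF.fa4fc89_8 : {f // @Cfsg.Lie.ChevalleyDatum.simple = f} := ⟨_, by first | (delta Cfsg.Lie.ChevalleyDatum.simple; rewrite [Cfsg.Agent.LsF.agetD_eq]; exact rfl) | exact rfl⟩
private noncomputable def _root_.Cfsg.Agent.LsF.fa4fc89_9 : {f // @Cfsg.Agent.ChevalleyStructure.CoxeterGeomTypes.cartanOf = f} := ⟨_, by first | (delta Cfsg.Agent.ChevalleyStructure.CoxeterGeomTypes.cartanOf; rewrite [Cfsg.Agent.LsF.fa4fc89_7.2, Cfsg.Agent.LsF.fa4fc89_8.2]; exact rfl) | exact rfl⟩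
theorem B0_nn0 : ∀ i j : Fin 9, (∑ k, ∑ l, nn i k * cartanOf chevE8 8 k l * nn j l) = if i = j then 8 else -1 := by
  (refine of_decide_eq_true ?_; (try (rewrite [Cfsg.Agent.LsF.sumF_pat, Cfsg.Agent.LsF.fa4fc89_6.2, Cfsg.Agent.LsF.fa4fc89_9.2, Cfsg.Agent.LsF.iadd_pat, Cfsg.Agent.LsF.imul_pat, Cfsg.Agent.LsF.ineg_pat, Cfsg.Agent.LsF.iACM_eq, Cfsg.Agent.LsF.instIDecEq_eq, Cfsg.Agent.LsF.dFinEq_eq, Cfsg.Agent.LsF.dForallFin_eq, Cfsg.Agent.LsF.ite_eq, Cfsg.Agent.LsF.decide_eq])); decide +kernel)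

theorem nn_sum0 : ∀ k : Fin 8, ∑ i : Fin 9, (∑ a, ∑ b, nn i a * cartanOf chevE8 8 a b * (sr k : Q8) b) • nn i =
    (9 : ℤ) • (sr k : Q8) := by (refine of_decide_eq_true ?_; (try (delta Cfsg.Agent.Tits.Roots.sr Function.update Pi.single; rewrite [Cfsg.Agent.LsF.sumF_pat, Cfsg.Agent.LsF.sumF_pat, Cfsg.Agent.LsF.dPiF_pat, Cfsg.Agent.LsF.fa4fc89_6.2, Cfsg.Agent.LsF.fa4fc89_9.2, Cfsg.Agent.LsF.iadd_pat, Cfsg.Agent.LsF.imul_pat, Cfsg.Agent.LsF.iACM_eq, Cfsg.Agent.LsF.instIDecEq_eq, Cfsg.Agent.LsF.dFinEq_eq, Cfsg.Agent.LsF.dForallFin_eq, Cfsg.Agent.LsF.dite_eq, Cfsg.Agent.LsF.decide_eq])); decide +kernel)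

theorem nn_zero : ∑ i : Fin 9, nn i = 0 := by decide +kernel

theorem B0_nn (i j : Fin 9) : B0 (nn i) (nn j) = if i = j then 8 else -1 := by rw [bf_apply, B0_nn0]

theorem nn_sub (i j : Fin 9) : nn i - nn j = (3 : ℤ) • (v9 i - v9 j) := by
  funext k
  simp only [nn, Pi.sub_apply, Pi.smul_apply, smul_eq_mul]
  ring

theorem B0_nv (k i j : Fin 9) :
    B0 (nn k) (v9 i - v9 j) = 3 * ((if k = i then 1 else 0) - if k = j then 1 else 0) := by
  have h := congrArg (B0 (nn k)) (nn_sub i j)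
  rw [map_sub, B0_nn, B0_nn, map_smul, smul_eq_mul] at h
  split_ifs at h ⊢ <;> omega

theorem B0_vv (i j k l : Fin 9) : B0 (v9 i - v9 j) (v9 k - v9 l) = ((if i = k then 1 else 0) - if i = l then 1 else 0) -
    ((if j = k then 1 else 0) - if j = l then 1 else 0) := by
  have h := congrArg (fun a => B0 a (v9 k - v9 l)) (nn_sub i j)
  simp only [map_sub B0 (nn i), map_smul, LinearMap.sub_apply, LinearMap.smul_apply, smul_eq_mul, B0_nv] at h
  omega

theorem ra_inj {i j k l : Fin 9} (h1 : i ≠ j) (h2 : k ≠ l) (h : ra i j = ra k l) : i = k ∧ j = l := by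
  have h3 := B0_vec (ra i j)
  nth_rw 2 [h] at h3
  rw [vec_ra i j h1, vec_ra k l h2, B0_vv] at h3
  split_ifs at h3 <;> simp_all

theorem op_ra {i j : Fin 9} (h : i ≠ j) : op (ra i j) = ra j i :=
  vec_injective (by rw [vec_op, vec_ra i j h, vec_ra j i h.symm, neg_sub])

/-! ### the linear map -/

variable {K : Type u} [Field K]

/-- the matrices -/
abbrev M9 (K : Type u) : Type u := Matrix (Fin 9) (Fin 9) K

variable (K) in
/-- the images of the elementary matrices -/
def bv (i j : Fin 9) : L8 K := if i = j then hq K (nn i) else ee K (Sum.inr (ra i j))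

theorem bv_eq (i : Fin 9) : bv K i i = hq K (nn i) := if_pos rfl

theorem bv_ne {i j : Fin 9} (h : i ≠ j) : bv K i j = ee K (Sum.inr (ra i j)) := if_neg h

variable (K) in
/-- the linear map -/
def io : M9 K →ₗ[K] L8 K where
  toFun A := ∑ i, ∑ j, A i j • bv K i j
  map_add' A B := by simp only [Matrix.add_apply, add_smul, Finset.sum_add_distrib]
  map_smul' c A := by simp only [Matrix.smul_apply, smul_eq_mul, mul_smul, Finset.smul_sum, RingHom.id_apply]

theorem io_apply (A : M9 K) : io K A = ∑ i, ∑ j, A i j • bv K i j := rfl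

theorem io_single (i j : Fin 9) (c : K) : io K (single i j c) = c • bv K i j := by
  rw [io_apply, Finset.sum_eq_single i, Finset.sum_eq_single j, single_apply_same]
  · intro l _ hl
    rw [single_apply_of_col_ne _ _ hl.symm, zero_smul]
  · exact fun h => absurd (Finset.mem_univ _) h
  · intro k _ hk
    exact Finset.sum_eq_zero fun l _ => by rw [single_apply_of_row_ne hk.symm, zero_smul]
  · exact fun h => absurd (Finset.mem_univ _) h

theorem io_diag (d : Fin 9 → K) : io K (diagonal d) = ∑ i, d i • hq K (nn i) := by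
  rw [io_apply]
  refine Finset.sum_congr rfl fun i _ => ?_
  rw [Finset.sum_eq_single i, diagonal_apply_eq, bv_eq]
  · intro l _ hl
    rw [diagonal_apply_ne' _ hl, zero_smul]
  · exact fun h => absurd (Finset.mem_univ _) h

theorem inT_diag (d : Fin 9 → K) : InT (io K (diagonal d)) := fun r => by
  rw [io_diag, Finset.sum_apply]
  exact Finset.sum_eq_zero fun i _ => mul_zero _

theorem rl_sum {ι : Type*} (s : Finset ι) (f : ι → L8 K) (a : Q8) : rl (∑ i ∈ s, f i) a = ∑ i ∈ s, rl (f i) a := by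
  classical
  induction s using Finset.induction_on with
  | empty => exact rl_zero a
  | insert i s hi ih => rw [Finset.sum_insert hi, Finset.sum_insert hi, rl_add, ih]

theorem rl_diag (d : Fin 9 → K) (a : Q8) : rl (io K (diagonal d)) a = ∑ i, d i * ((B0 (nn i) a : ℤ) : K) := by
  rw [io_diag, rl_sum]
  exact Finset.sum_congr rfl fun i _ => by rw [rl_smul, rl_hq]

theorem rl_ee (r : Fin chevE8.nroots) (a : Q8) : rl (ee K (Sum.inr r)) a = 0 := by
  rw [rl_congr (w := 0) fun i => ee_ne (by simp), rl_zero]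

theorem io_one : io K 1 = 0 := by
  rw [← diagonal_one]
  refine inT_ext (inT_diag _) (fun _ => rfl) fun k => ?_
  rw [rl_diag, rl_zero]
  simp only [one_mul]
  rw [← Int.cast_sum, ← LinearMap.sum_apply, ← map_sum, nn_zero, map_zero, LinearMap.zero_apply, Int.cast_zero]

theorem io_ra (A : M9 K) {i j : Fin 9} (h : i ≠ j) : io K A (Sum.inr (ra i j)) = A i j := by
  induction A using Matrix.induction_on' with
  | h_zero => rw [map_zero]; rfl
  | h_add A B hA hB => rw [map_add, Pi.add_apply, hA, hB, Matrix.add_apply]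
  | h_std_basis k l c =>
    rw [io_single, Pi.smul_apply, smul_eq_mul]
    by_cases e : k = i ∧ l = j
    · rw [e.1, e.2, bv_ne h, ee_self, mul_one, single_apply_same]
    · rw [single_apply_of_ne _ _ _ _ _ e]
      by_cases e' : k = l
      · rw [e', bv_eq, inT_hq, mul_zero]
      · rw [bv_ne e', ee_ne fun h' => e (ra_inj e' h (Sum.inr.inj h').symm), mul_zero]

variable [CharP K 2]

theorem cast_nn (i j : Fin 9) : ((B0 (nn i) (nn j) : ℤ) : K) = (if i = j then 1 else 0) + 1 := by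
  have h2 : (2 : K) = 0 := CharTwo.two_eq_zero
  rw [B0_nn]
  split_ifs
  · push_cast
    linear_combination 3 * h2
  · push_cast
    linear_combination -h2

theorem cast_nv (k i j : Fin 9) :
    ((B0 (nn k) (v9 i - v9 j) : ℤ) : K) = (if k = i then 1 else 0) + if k = j then 1 else 0 := by
  have h2 : (2 : K) = 0 := CharTwo.two_eq_zero
  rw [B0_nv]
  split_ifs <;> push_cast
  exacts [by linear_combination -h2, by linear_combination h2, by linear_combination -2 * h2, by ring]

theorem rl_bv (i j k : Fin 9) : rl (bv K i j) (nn k) = if i = j then (if i = k then 1 else 0) + 1 else 0 := by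
  by_cases h : i = j
  · rw [if_pos h, ← h, bv_eq, rl_hq, cast_nn]
  · rw [if_neg h, bv_ne h, rl_ee]

theorem rl_io (A : M9 K) (k : Fin 9) : rl (io K A) (nn k) = A k k + trace A := by
  induction A using Matrix.induction_on' with
  | h_zero => rw [map_zero, rl_zero, trace_zero, add_zero]; rfl
  | h_add A B hA hB => rw [map_add, rl_add, hA, hB, Matrix.add_apply, trace_add]; ring
  | h_std_basis i j c =>
    rw [io_single, rl_smul, rl_bv]
    by_cases e : i = j
    · subst e
      rw [if_pos rfl, trace_single_eq_same]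
      by_cases e' : i = k
      · rw [if_pos e', e', single_apply_same, mul_add, mul_one]
      · rw [if_neg e', single_apply_of_row_ne e', zero_add, zero_add, mul_one]
    · rw [if_neg e, trace_single_eq_of_ne _ _ _ e, single_apply_of_ne _ _ _ _ _ fun h => e (h.1.trans h.2.symm), mul_zero,
        add_zero]

theorem io_inj {A : M9 K} (h : io K A = 0) : A = trace A • (1 : M9 K) := by
  ext i j
  rw [Matrix.smul_apply, smul_eq_mul]
  by_cases e : i = j
  · subst e
    have h1 := rl_io A i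
    rw [h, rl_zero] at h1
    rw [one_apply_eq, mul_one]
    exact (CharTwo.add_eq_zero.1 h1.symm)
  · rw [one_apply_ne e, mul_zero, ← io_ra A e, h]
    rfl

theorem io_T {h : L8 K} (hh : InT h) : h = io K (diagonal fun i => rl h (nn i)) := by
  refine inT_ext hh (inT_diag _) fun k => ?_
  have h1 := congrArg (rl h) (nn_sum0 k)
  rw [map_sum, map_zsmul, zsmul_eq_mul] at h1
  rw [rl_diag, Finset.sum_congr rfl fun i _ => by rw [bf_apply, mul_comm, ← zsmul_eq_mul, ← map_zsmul], h1]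
  have h2 : (2 : K) = 0 := CharTwo.two_eq_zero
  push_cast
  linear_combination (-4 * rl h (sr k)) * h2

theorem io_onto {v : L8 K} (hv : v ∈ LS K {a | 3 ∣ a 1}) : ∃ A, v = io K A := by
  suffices h : v ∈ LinearMap.range (io K) from h.imp fun _ e => e.symm
  rw [← Finset.univ_sum_single v]
  refine Submodule.sum_mem _ fun i _ => ?_
  by_cases h0 : v i = 0
  · rw [h0, Pi.single_zero]
    exact zero_mem _
  · rcases i with i | r
    · exact ⟨_, (io_T fun r => Pi.single_eq_of_ne (by simp) _).symm⟩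
    · obtain ⟨i, j, hij, rfl⟩ := exists_ra r (hv _ h0)
      exact ⟨single i j (v (Sum.inr (ra i j))), by rw [io_single, bv_ne hij, ee, ← Pi.single_smul, smul_eq_mul, mul_one]⟩

omit [CharP K 2] in
theorem io_mem (A : M9 K) : io K A ∈ LS K {a | 3 ∣ a 1} := by
  rw [io_apply]
  refine Submodule.sum_mem _ fun i _ => Submodule.sum_mem _ fun j _ => Submodule.smul_mem _ _ ?_
  by_cases e : i = j
  · rw [e, bv_eq]
    exact LS_mono (fun a ha => by rw [Set.mem_singleton_iff.1 ha]; exact dvd_zero 3) (inT_iff.1 (inT_hq _))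
  · rw [bv_ne e]
    refine ee_mem_LS ?_
    rw [wt_inr, vec_ra i j e]
    exact dvd_sub (v9_one i) (v9_one j)

theorem br_bv1 (i : Fin 9) {k l : Fin 9} (h : k ≠ l) :
    br (bv K i i) (bv K k l) = (if i = k then bv K i l else 0) + if l = i then bv K k i else 0 := by
  rw [bv_eq, bv_ne h, br_T_ee (inT_hq _), ← rl_vec, rl_hq, vec_ra k l h, cast_nv, add_smul, ← bv_ne h]
  congr 1
  · split_ifs with e
    · rw [e, one_smul]
    · rw [zero_smul]
  · by_cases e : i = l
    · rw [if_pos e, if_pos e.symm, e, one_smul]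
    · rw [if_neg e, if_neg (Ne.symm e), zero_smul]

theorem br_bv2 {i j l : Fin 9} (h1 : i ≠ j) (h2 : j ≠ l) (h3 : i ≠ l) : br (bv K i j) (bv K j l) = bv K i l := by
  rw [bv_ne h1, bv_ne h2, bv_ne h3]
  exact br_ee (by rw [vec_ra _ _ h1, vec_ra _ _ h2, vec_ra _ _ h3, sub_add_sub_cancel])

theorem br_bv (i j k l : Fin 9) :
    br (bv K i j) (bv K k l) = (if j = k then bv K i l else 0) + if l = i then bv K k j else 0 := by
  by_cases h1 : i = j
  · subst h1
    by_cases h2 : k = l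
    · subst h2
      have h3 : br (bv K i i) (bv K k k) = 0 := by
        funext m
        rw [bv_eq, bv_eq, br_T (inT_hq _)]
        rcases m with m | r
        · rw [wt_inl, map_zero, zero_mul]; rfl
        · exact mul_zero _
      rw [h3]
      by_cases e : i = k
      · rw [if_pos e, if_pos e.symm, e, two_L]
      · rw [if_neg e, if_neg (Ne.symm e), add_zero]
    · exact br_bv1 i h2
  · by_cases h2 : k = l
    · subst h2
      rw [br_comm, br_bv1 k h1, add_comm]
    · by_cases e1 : j = k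
      · subst e1
        rw [if_pos rfl]
        by_cases e2 : l = i
        · subst e2
          rw [if_pos rfl, bv_ne h1, bv_ne h2, ← op_ra h1, br_ee_op, vec_ra _ _ h1, bv_eq, bv_eq]
          refine inT_ext (inT_hq _) (fun r => add_zero _) fun m => ?_
          have h3 := congrArg (fun a => ((B0 a (sr m) : ℤ) : K)) (nn_sub l j)
          simp only [map_sub B0 (nn l), map_smul, LinearMap.sub_apply, LinearMap.smul_apply, smul_eq_mul] at h3
          have h4 : (2 : K) = 0 := CharTwo.two_eq_zero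
          rw [rl_add, rl_hq, rl_hq, rl_hq]
          push_cast at h3
          linear_combination -h3 - (((B0 (v9 l - v9 j) (sr m) : ℤ) : K) + ((B0 (nn j) (sr m) : ℤ) : K)) * h4
        · rw [if_neg e2, add_zero, br_bv2 h1 h2 (Ne.symm e2)]
      · rw [if_neg e1, zero_add]
        by_cases e2 : l = i
        · subst e2
          rw [if_pos rfl, br_comm, br_bv2 h2 h1 (Ne.symm e1)]
        · rw [if_neg e2, bv_ne h1, bv_ne h2]
          refine br_ee_zero ?_
          rw [vec_ra _ _ h1, vec_ra _ _ h2, B0_vv, if_neg e1, if_neg (Ne.symm e2)]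
          split_ifs <;> norm_num

theorem io_br (A B : M9 K) : br (io K A) (io K B) = io K (A * B + B * A) := by
  induction A using Matrix.induction_on' with
  | h_zero => rw [map_zero, br_zero_left, Matrix.zero_mul, Matrix.mul_zero, add_zero, map_zero]
  | h_add A A' hA hA' => rw [map_add, br_add_left, hA, hA', ← map_add, Matrix.add_mul, Matrix.mul_add]; congr 1; abel
  | h_std_basis i j c =>
    induction B using Matrix.induction_on' with
    | h_zero => rw [map_zero, br_zero_right, Matrix.zero_mul, Matrix.mul_zero, add_zero, map_zero]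
    | h_add A A' hA hA' => rw [map_add, br_add_right, hA, hA', ← map_add, Matrix.add_mul, Matrix.mul_add]; congr 1; abel
    | h_std_basis k l d =>
      rw [io_single, io_single, br_smul_left, br_smul_right, br_bv, smul_smul, smul_add, map_add]
      congr 1
      · split_ifs with e
        · rw [e, single_mul_single_same, io_single]
        · rw [single_mul_single_of_ne _ _ _ _ e, map_zero, smul_zero]
      · split_ifs with e
        · rw [e, single_mul_single_same, io_single, mul_comm]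
        · rw [single_mul_single_of_ne _ _ _ _ e, map_zero, smul_zero]

theorem io_kf (A B : M9 K) : kf K (io K A) (io K B) = trace (A * B) + trace A * trace B := by
  induction A using Matrix.induction_on' with
  | h_zero => simp
  | h_add A A' hA hA' => rw [map_add, map_add, LinearMap.add_apply, hA, hA', Matrix.add_mul, trace_add, trace_add]; ring
  | h_std_basis i j c =>
    rw [io_single, map_smul, LinearMap.smul_apply, trace_single_mul, smul_eq_mul, smul_eq_mul]
    by_cases e : i = j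
    · subst e
      rw [bv_eq, kf_hq, rl_io, trace_single_eq_same, mul_add]
    · rw [bv_ne e, kf_ee, op_ra e, io_ra B (Ne.symm e), trace_single_eq_of_ne _ _ _ e, zero_mul, add_zero]

/-! ### elements which act as matrices -/

omit [CharP K 2] in
/-- `g` acts as `M` -/
structure Lk (j : M9 K →ₗ[K] L8 K) (g : G8 K) (M M' : M9 K) : Prop where
  r : M * M' = 1
  l : M' * M = 1
  act : ∀ A, act g (j A) = j (M * A * M')

namespace Lk

omit [CharP K 2]

variable {j : M9 K →ₗ[K] L8 K} {g g' : G8 K} {M M' N N' : M9 K}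

theorem one : Lk j 1 1 1 := ⟨mul_one _, mul_one _, fun A => by rw [act_one, one_mul, mul_one]⟩

theorem mul (h : Lk j g M M') (h' : Lk j g' N N') : Lk j (g * g') (M * N) (N' * M') where
  r := by rw [mul_assoc, ← mul_assoc N, h'.r, one_mul, h.r]
  l := by rw [mul_assoc, ← mul_assoc M', h.l, one_mul, h'.l]
  act A := by rw [act_mul, h'.act, h.act]; simp only [mul_assoc]

theorem inv (h : Lk j g M M') : Lk j g⁻¹ M' M where
  r := h.l
  l := h.r
  act A := act_injective g (by
    rw [act_inv', h.act, ← mul_assoc, ← mul_assoc, h.r, one_mul, mul_assoc, h.r, mul_one])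

theorem smul (h : Lk j g M M') {c : K} (hc : c ≠ 0) : Lk j g (c • M) (c⁻¹ • M') where
  r := by rw [smul_mul_smul_comm, mul_inv_cancel₀ hc, one_smul, h.r]
  l := by rw [smul_mul_smul_comm, inv_mul_cancel₀ hc, one_smul, h.l]
  act A := by rw [h.act, smul_mul_assoc, smul_mul_smul_comm, mul_inv_cancel₀ hc, one_smul]

theorem trace (h : Lk j g M M') (A : M9 K) : trace (M * A * M') = trace A := by
  rw [trace_mul_cycle, h.l, one_mul]

theorem conj (h : Lk j g M M') (c : G8 K) : Lk (LK K c ∘ₗ j) (c * g * c⁻¹) M M' where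
  r := h.r
  l := h.l
  act A := by
    show E8A.act _ (E8A.act c (j A)) = E8A.act c (j _)
    rw [← act_mul, inv_mul_cancel_right, act_mul, h.act]

end Lk

omit [CharP K 2] in
/-- the elements which act as matrices -/
def CS (j : M9 K →ₗ[K] L8 K) : Subgroup (G8 K) where
  carrier := {g | ∃ M M', Lk j g M M'}
  one_mem' := ⟨_, _, Lk.one⟩
  mul_mem' := fun ⟨_, _, h⟩ ⟨_, _, h'⟩ => ⟨_, _, h.mul h'⟩
  inv_mem' := fun ⟨_, _, h⟩ => ⟨_, _, h.inv⟩

theorem two_M (A : M9 K) : A + A = 0 := Matrix.ext fun i j => CharTwo.add_self_eq_zero (A i j)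

theorem lk_xr {i j : Fin 9} (h : i ≠ j) (c : K) : Lk (io K) (xr (ra i j) c) (1 + single i j c) (1 + single i j c) := by
  have h1 : (1 + single i j c : M9 K) * (1 + single i j c) = 1 := by
    rw [add_mul, mul_add, mul_add, one_mul, one_mul, mul_one, single_mul_single_of_ne _ _ _ _ h.symm, add_zero, add_assoc,
      two_M, add_zero]
  refine ⟨h1, h1, fun A => ?_⟩
  have h2 : ee K (Sum.inr (ra i j)) = io K (single i j 1) := by rw [io_single, bv_ne h, one_smul]
  rw [act_xr, kf_ee, op_ra h, io_ra A h.symm, h2, io_br, sub_L, ← map_smul, ← map_smul, ← map_add, ← map_add]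
  congr 1
  rw [add_mul, mul_add, one_mul, mul_one, add_mul, single_mul_mul_single, smul_add, ← smul_mul_assoc,
    ← mul_smul_comm, smul_single, smul_single, smul_eq_mul, smul_eq_mul, mul_one, mul_one,
    show c * A j i * c = c ^ 2 * A j i by ring]
  abel

omit [CharP K 2] in
theorem lk_mc {t : G8 K} {φ : Q8 → K} (hφ : IsMC φ) (ht : ∀ v i, act t v i = φ (wt i) * v i) :
    Lk (io K) t (diagonal fun i => φ (v9 i)) (diagonal fun i => (φ (v9 i))⁻¹) where
  r := by rw [diagonal_mul_diagonal, ← diagonal_one]; congr 1; funext i; exact mul_inv_cancel₀ (hφ.ne_zero _)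
  l := by rw [diagonal_mul_diagonal, ← diagonal_one]; congr 1; funext i; exact inv_mul_cancel₀ (hφ.ne_zero _)
  act A := by
    rw [io_apply, io_apply, act_sum]
    refine Finset.sum_congr rfl fun i _ => ?_
    rw [act_sum]
    refine Finset.sum_congr rfl fun j _ => ?_
    rw [act_smul, mul_diagonal, diagonal_mul]
    funext m
    rw [Pi.smul_apply, Pi.smul_apply, ht, smul_eq_mul, smul_eq_mul]
    by_cases e : i = j
    · subst e
      rw [mul_right_comm (φ _), mul_inv_cancel₀ (hφ.ne_zero _), one_mul, bv_eq]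
      rcases m with m | r
      · rw [wt_inl, hφ.zero, one_mul]
      · rw [inT_hq, mul_zero]
    · rw [bv_ne e]
      by_cases e' : m = Sum.inr (ra i j)
      · rw [e', wt_inr, vec_ra i j e, hφ.sub, div_eq_mul_inv]
        ring
      · rw [ee_ne e', mul_zero, mul_zero, mul_zero]

omit [CharP K 2] in
theorem mc_ex {c : K} (hc : c ≠ 0) (y : Q8) : IsMC fun a => c ^ ex y a :=
  ⟨by rw [Reg5.Cls.ex_zero, zpow_zero], fun a b => by rw [ex_add', zpow_add₀ hc]⟩

theorem cs_col (i : Fin 9) (w : Fin 9 → K) (hw : w i = 0) :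
    ∃ g M', Lk (io K) g (1 + vecMulVec w (Pi.single i 1)) M' := by
  have key : ∀ s : Finset (Fin 9), i ∉ s → ∃ g M', Lk (io K) g (1 + ∑ k ∈ s, single k i (w k)) M' := by
    intro s
    induction s using Finset.induction_on with
    | empty => exact fun _ => ⟨1, 1, by rw [Finset.sum_empty, add_zero]; exact Lk.one⟩
    | insert k s hk ih =>
      intro hi
      rw [Finset.mem_insert, not_or] at hi
      obtain ⟨g, M', h⟩ := ih hi.2
      have h1 := (lk_xr (Ne.symm hi.1) (w k)).mul h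
      rw [add_mul, one_mul, mul_add, mul_one, Finset.mul_sum, Finset.sum_eq_zero (s := s)
        (f := fun l => single k i (w k) * single l i (w l)) fun l hl =>
          single_mul_single_of_ne _ _ _ _ (fun e : i = l => hi.2 (e ▸ hl)) _, add_zero] at h1
      exact ⟨_, _, by rwa [Finset.sum_insert hk, add_comm (single _ _ _), ← add_assoc]⟩
  have h1 := key (Finset.univ.erase i) (Finset.notMem_erase _ _)
  rw [Finset.sum_erase _ (by rw [hw, single_zero])] at h1
  convert h1 using 5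
  ext a b
  simp [vecMulVec_apply, Matrix.sum_apply, single, Pi.single_apply, ite_and, eq_comm]

theorem cs_row (i : Fin 9) (w : Fin 9 → K) (hw : w i = 0) :
    ∃ g M', Lk (io K) g (1 + vecMulVec (Pi.single i 1) w) M' := by
  have key : ∀ s : Finset (Fin 9), i ∉ s → ∃ g M', Lk (io K) g (1 + ∑ k ∈ s, single i k (w k)) M' := by
    intro s
    induction s using Finset.induction_on with
    | empty => exact fun _ => ⟨1, 1, by rw [Finset.sum_empty, add_zero]; exact Lk.one⟩
    | insert k s hk ih =>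
      intro hi
      rw [Finset.mem_insert, not_or] at hi
      obtain ⟨g, M', h⟩ := ih hi.2
      have h1 := (lk_xr hi.1 (w k)).mul h
      rw [add_mul, one_mul, mul_add, mul_one, Finset.mul_sum, Finset.sum_eq_zero (s := s)
        (f := fun l => single i k (w k) * single i l (w l)) fun l _ =>
          single_mul_single_of_ne _ _ _ _ (Ne.symm hi.1) _, add_zero] at h1
      exact ⟨_, _, by rwa [Finset.sum_insert hk, add_comm (single _ _ _), ← add_assoc]⟩
  have h1 := key (Finset.univ.erase i) (Finset.notMem_erase _ _)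
  rw [Finset.sum_erase _ (by rw [hw, single_zero])] at h1
  convert h1 using 5
  ext a b
  simp [vecMulVec_apply, Matrix.sum_apply, single, Pi.single_apply, ite_and, eq_comm]

omit [CharP K 2] in
theorem extr_smul {x : L8 K} (h : Extr x) {c : K} (hc : c ≠ 0) : Extr (c • x) := by
  obtain ⟨g, r, d, hd, rfl⟩ := h
  exact ⟨g, r, c * d, mul_ne_zero hc hd, smul_smul _ _ _⟩

theorem extr_row (i : Fin 9) {f : Fin 9 → K} (hi : f i = 0) (hf : f ≠ 0) :
    Extr (io K (vecMulVec (Pi.single i 1) f)) := by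
  obtain ⟨j, hj⟩ := Function.ne_iff.1 hf
  replace hj : f j ≠ 0 := hj
  have hij : i ≠ j := fun e => hj (e ▸ hi)
  obtain ⟨g, M', h⟩ := cs_row j ((f j)⁻¹ • f - Pi.single j 1) (by simp [hj])
  have h1 : Extr (io K (single i j 1)) := ⟨1, ra i j, 1, one_ne_zero, by rw [io_single, bv_ne hij, act_one]⟩
  have h2 := extr_smul (h1.act g⁻¹) hj
  have h3 : (1 + vecMulVec (Pi.single j 1) ((f j)⁻¹ • f - Pi.single j 1) : M9 K) *ᵥ Pi.single i 1 = Pi.single i 1 := by
    rw [add_mulVec, one_mulVec, vecMulVec_mulVec]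
    simp [hi, hij]
  have h4 : M' *ᵥ Pi.single i 1 = Pi.single i 1 := by
    conv_lhs => rw [← h3, mulVec_mulVec, h.l, one_mulVec]
  rw [h.inv.act, single_eq_single_vecMulVec_single, mul_vecMulVec, vecMulVec_mul, h4, vecMul_add, vecMul_one,
    vecMul_vecMulVec, ← map_smul, ← vecMulVec_smul] at h2
  simpa [hj] using h2

theorem extr_io {a f : Fin 9 → K} (h0 : f ⬝ᵥ a = 0) (ha : a ≠ 0) (hf : f ≠ 0) : Extr (io K (vecMulVec a f)) := by
  obtain ⟨i, hi⟩ := Function.ne_iff.1 ha
  replace hi : a i ≠ 0 := hi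
  obtain ⟨g, M', h⟩ := cs_col i ((a i)⁻¹ • a - Pi.single i 1) (by simp [hi])
  generalize hM : (1 + vecMulVec ((a i)⁻¹ • a - Pi.single i 1) (Pi.single i 1) : M9 K) = M at h
  have h3 : M *ᵥ Pi.single i 1 = (a i)⁻¹ • a := by
    rw [← hM, add_mulVec, one_mulVec, vecMulVec_mulVec]
    simp
  have h4 : f ᵥ* M ᵥ* M' = f := by rw [vecMul_vecMul, h.r, vecMul_one]
  have h1 := extr_row i (f := f ᵥ* M) (by
    have h5 := dotProduct_mulVec f M (Pi.single i 1)
    rw [h3, dotProduct_smul, h0, smul_zero, dotProduct_single, mul_one] at h5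
    exact h5.symm) fun e => hf (by rw [← h4, e, zero_vecMul])
  have h2 := extr_smul (h1.act g) hi
  rwa [h.act, mul_vecMulVec, vecMulVec_mul, h3, h4, ← map_smul, ← smul_vecMulVec, smul_inv_smul₀ hi] at h2

/-! ### frames -/

omit [CharP K 2] in
/-- the fixed space of `x` as a matrix algebra -/
structure Fr (x : G8 K) (j : M9 K →ₗ[K] L8 K) : Prop where
  br : ∀ A B, br (j A) (j B) = j (A * B + B * A)
  one : j 1 = 0
  inj : ∀ A, j A = 0 → A = trace A • (1 : M9 K)
  fix : ∀ A, act x (j A) = j A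
  onto : ∀ v, act x v = v → ∃ A, v = j A
  lk : ∀ g, Commute g x → ∃ M M', Lk j g M M'
  ext : ∀ a f, f ⬝ᵥ a = 0 → a ≠ 0 → f ≠ 0 → Extr (j (vecMulVec a f))
  yv : ∀ k M, Commute k x → k * k = 1 → Lk j k M M → Yv k (j M)

omit [CharP K 2] in
theorem Fr.conj {x : G8 K} {j : M9 K →ₗ[K] L8 K} (h : Fr x j) (c : G8 K) : Fr (c * x * c⁻¹) (LK K c ∘ₗ j) := by
  have e : ∀ A, (LK K c ∘ₗ j) A = act c (j A) := fun _ => rfl
  have e1 : ∀ g, Commute g (c * x * c⁻¹) → Commute (c⁻¹ * g * c) x := fun g hg => by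
    have h1 := hg.conj c⁻¹
    rwa [inv_inv, show c⁻¹ * (c * x * c⁻¹) * c = x by group] at h1
  have e2 : ∀ g : G8 K, c * (c⁻¹ * g * c) * c⁻¹ = g := fun g => by group
  refine ⟨fun A B => ?_, ?_, fun A hA => ?_, fun A => ?_, fun v hv => ?_, fun g hg => ?_, fun a f h0 ha hf => ?_,
    fun k M hk hk2 hM => ?_⟩
  · rw [e, e, e, ← act_br, h.br]
  · rw [e, h.one, act_zero]
  · exact h.inj A (act_eq_zero hA)
  · rw [e, ← act_mul, inv_mul_cancel_right, act_mul, h.fix]
  · obtain ⟨A, hA⟩ := h.onto (act c⁻¹ v) (by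
      conv_rhs => rw [← hv, ← act_mul, mul_assoc, inv_mul_cancel_left, act_mul])
    exact ⟨A, by rw [e, ← hA, act_inv']⟩
  · obtain ⟨M, M', hM⟩ := h.lk _ (e1 g hg)
    exact ⟨M, M', e2 g ▸ hM.conj c⟩
  · exact (h.ext a f h0 ha hf).act c
  · have h1 := (h.yv (c⁻¹ * k * c) M (e1 k hk) (by
      rw [show c⁻¹ * k * c * (c⁻¹ * k * c) = c⁻¹ * (k * k) * c by group, hk2, mul_one, inv_mul_cancel]) ⟨hM.r, hM.l, fun A => by
        rw [act_mul, act_mul, ← e, hM.act, e, act_inv]⟩).conj c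
    rwa [e2] at h1

theorem trace_sq (A : M9 K) : trace (A * A) = trace A ^ 2 := by
  induction A using Matrix.induction_on' with
  | h_zero => simp
  | h_add A B hA hB =>
    rw [add_mul, mul_add, mul_add, trace_add, trace_add, trace_add, trace_add, hA, hB, trace_mul_comm B A, CharTwo.add_sq]
    linear_combination CharTwo.add_self_eq_zero (trace (A * B))
  | h_std_basis i j c =>
    by_cases e : i = j
    · rw [e, single_mul_single_same, trace_single_eq_same, trace_single_eq_same, sq]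
    · rw [single_mul_single_of_ne _ _ _ _ (Ne.symm e), trace_single_eq_of_ne _ _ _ e, trace_zero, zero_pow two_ne_zero]

theorem trace_one9 : trace (1 : M9 K) = 1 := by
  rw [trace_one, Fintype.card_fin]
  push_cast
  linear_combination 4 * (CharTwo.two_eq_zero : (2 : K) = 0)

variable {ω : K} {t : G8 K}

omit [CharP K 2] in
theorem fix_iff (hω : IsPrimitiveRoot ω 3) (ht : mx t = dz ω (Pi.single 1 1)) {v : L8 K} :
    act t v = v ↔ v ∈ LS K {a | 3 ∣ a 1} := by
  refine funext_iff.trans (forall_congr' fun i => ?_)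
  rw [act_dz ht, ex_single]
  by_cases h0 : v i = 0
  · simp [h0]
  · rw [mul_eq_right₀ h0, hω.zpow_eq_one_iff_dvd]
    exact ⟨fun h _ => h, fun h => h h0⟩

theorem yv_io (hω : IsPrimitiveRoot ω 3) (ht : mx t = dz ω (Pi.single 1 1)) {k : G8 K} {M : M9 K} (hk : Commute k t)
    (hk2 : k * k = 1) (h : Lk (io K) k M M) : Yv k (io K M) := by
  refine yv_of_basis hk2 fun i => ?_
  by_cases hi : (3 : ℤ) ∣ wt i 1
  · obtain ⟨B, hB⟩ := io_onto (K := K) (ee_mem_LS (A := {a | 3 ∣ a 1}) hi)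
    have h1 := trace_sq M
    rw [h.r, trace_one9] at h1
    rw [hB, h.act, io_kf, io_kf, h.trace, mul_assoc (M * B), trace_sq, CharTwo.add_sq, mul_pow, ← h1, one_mul, sq (trace B)]
  · have h1 : act t (ee K i) = ω ^ wt i 1 • ee K i := by
      funext m
      rw [act_dz ht, ex_single, Pi.smul_apply, smul_eq_mul]
      by_cases e : m = i
      · rw [e]
      · rw [ee_ne e, mul_zero, mul_zero]
    have h2 := kf_act t (io K M) (ee K i)
    have h3 := kf_act t (act k (ee K i)) (ee K i)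
    rw [(fix_iff hω ht).2 (io_mem M), h1, map_smul, smul_eq_mul] at h2
    rw [← act_mul, ← hk.eq, act_mul, h1, act_smul, map_smul, map_smul, LinearMap.smul_apply, smul_eq_mul, smul_eq_mul,
      ← mul_assoc, ← zpow_add₀ (hω.ne_zero (by norm_num))] at h3
    have h4 : ∀ (m : ℤ) (c : K), ¬ 3 ∣ m → ω ^ m * c = c → c = 0 := fun m c hm e => by
      by_contra hc
      rw [mul_eq_right₀ hc, hω.zpow_eq_one_iff_dvd] at e
      exact hm e
    rw [h4 _ _ hi h2, h4 _ _ (by omega) h3, zero_pow two_ne_zero]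

section

variable {F : Type u} [Field F] [Finite F] [CharP F 2] {ω : Kb F} {t : G8 (Kb F)}

theorem cent_cs (hω : IsPrimitiveRoot ω 3) (ht : mx t = dz ω (Pi.single 1 1)) (h3 : t ^ 3 = 1) {g : G8 (Kb F)}
    (hg : Commute g t) : g ∈ CS (io (Kb F)) := by
  have := charKb (F := F)
  have : Fact (Nat.Prime 2) := ⟨Nat.prime_two⟩
  have h0 := hω.ne_zero (by norm_num)
  obtain ⟨t', ht', e⟩ := exists_tz h0 (Pi.single 1 1)
  obtain rfl : t = t' := mx_injective (ht.trans e.symm)
  have hFinW : Finite CoxeterMatrix.E₈.Group := finite_W e8T CoxeterMatrix.E₈.toCoxeterSystem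
  have hFrm := H897.T5UntwRow.par8.frm (CoxeterMatrix.E₈.toCoxeterSystem) e8T.isCartan
    (fun i j => (H897.T5UntwRow.n8 i j).1) (fun i j => (H897.T5UntwRow.n8 i j).2)
  have hcon := H897.T5Cent.con_of_frm e8T CoxeterMatrix.E₈.toCoxeterSystem (locFinKb F) 2 Nat.prime_three (by norm_num)
    BpExc.FamInst.inv_E8 (Nat.coprime_one_left _) hFrm
  obtain ⟨m, hm, s, hs, rfl⟩ := H897.T5Cent.cent_form e8T CoxeterMatrix.E₈.toCoxeterSystem (locFinKb F) 2 hcon ht' h3 hg.eq
  refine mul_mem (sup_le_of (fun a ha => ha.1) (fun r hr c => ?_) hm) ⟨_, _, lk_mc (isMC_cX e8T hs) (act_TT hs)⟩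
  have h1 := hr.2 t rfl
  have h2 := congrFun (congrFun ((mx_TT ht').symm.trans ht) (Sum.inr r)) (Sum.inr r)
  rw [dz, diagonal_apply_eq, diagonal_apply_eq, wt_inr, cX_root e8T _ ht' hr.1, h1, eq_comm, hω.zpow_eq_one_iff_dvd,
    ex_single] at h2
  obtain ⟨i, j, hij, rfl⟩ := exists_ra r h2
  exact ⟨_, _, lk_xr hij c⟩

theorem fr_io (hω : IsPrimitiveRoot ω 3) (ht : mx t = dz ω (Pi.single 1 1)) (h3 : t ^ 3 = 1) : Fr t (io (Kb F)) :=
  have := charKb (F := F)
  ⟨io_br, io_one, fun _ => io_inj, fun A => (fix_iff hω ht).2 (io_mem A), fun _ hv => io_onto ((fix_iff hω ht).1 hv),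
    fun _ hg => cent_cs hω ht h3 hg, fun _ _ => extr_io, fun _ _ => yv_io hω ht⟩

end

end Cfsg.Agent.E8A.TwoB

private theorem dce_7dcb09471c0a : _root_.True := by
  try have : _root_.True := by simp only [_root_.Cfsg.Agent.E8A.TwoB.nn.eq_1]
  exact _root_.True.intro
end
end
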